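import Cfsg.Agent.Lib.DGroupCent.Semidihedral
import Mathlib.GroupTheory.SpecificGroups.ZGroup
import Mathlib.GroupTheory.Perm.Cycle.Basic

/-!
# A product of a cyclic group and a group with cyclic Sylow subgroups, trivial solvable radical

* `Fac.eq_one_of_conj`: no nontrivial element of `A` is conjugate into `B`;
* `Fac.exists_index_two`: a generator of `A` is an odd permutation of `G / B`;
* `Fac.exists_sylow`: a Sylow 2-subgroup `⟨a⟩⟨d⟩`.
-/

set_option autoImplicit false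
set_option linter.unusedSectionVars false

namespace Cfsg.Agent.CyclicTimesZ

open Subgroup
open scoped Pointwise

universe u

/-- `G = A B`, `A` cyclic, `B` a Z-group, no solvable normal subgroup, `G` not solvable. -/
structure Fac (G : Type u) [Group G] (A B : Subgroup G) : Prop where
  cyc : IsCyclic A
  zg : IsZGroup B
  mul : ∀ g : G, ∃ a ∈ A, ∃ b ∈ B, g = a * b
  rad : ∀ N : Subgroup G, N.Normal → Group.IsSolvable N → N = ⊥
  nsol : ¬ Group.IsSolvable G

variable {G : Type u} [Group G] [Finite G] {A B : Subgroup G}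

theorem Fac.mul' (F : Fac G A B) (g : G) : ∃ b ∈ B, ∃ a ∈ A, g = b * a := by
  obtain ⟨a, ha, b, hb, h⟩ := F.mul g⁻¹
  exact ⟨b⁻¹, inv_mem hb, a⁻¹, inv_mem ha, by rw [← mul_inv_rev, ← h, inv_inv]⟩

theorem Fac.inf_eq (F : Fac G A B) {c : G} (hA : c ∈ A) (hB : c ∈ B) : c = 1 := by
  haveI := F.cyc
  haveI := F.zg
  haveI := Fintype.ofFinite G
  have hle : normalClosure {c} ≤ B := by
    rw [normalClosure, closure_le]
    intro t ht
    obtain ⟨s, hs, hst⟩ := Group.mem_conjugatesOfSet_iff.1 ht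
    rw [Set.mem_singleton_iff] at hs
    subst hs
    obtain ⟨g, rfl⟩ := isConj_iff.1 hst
    obtain ⟨b, hb, a, ha, rfl⟩ := F.mul' g
    have hc : a * s * a⁻¹ = s := by
      have h1 := congrArg Subtype.val (IsCyclic.commGroup.mul_comm (⟨a, ha⟩ : A) ⟨s, hA⟩)
      rw [coe_mul, coe_mul] at h1
      rw [h1, mul_inv_cancel_right]
    rw [show b * a * s * (b * a)⁻¹ = b * (a * s * a⁻¹) * b⁻¹ by group, hc]
    exact mul_mem (mul_mem hb hB) (inv_mem hb)
  haveI : IsZGroup (normalClosure {c}) := IsZGroup.of_injective (inclusion_injective hle)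
  have h := F.rad (normalClosure {c}) normalClosure_normal inferInstance
  exact mem_bot.1 (h ▸ subset_normalClosure (Set.mem_singleton c))

/-- No nontrivial element of `A` is conjugate to an element of `B`. -/
theorem Fac.eq_one_of_conj (F : Fac G A B) {a g : G} (ha : a ∈ A) (h : g * a * g⁻¹ ∈ B) : a = 1 := by
  haveI := F.cyc
  obtain ⟨b, hb, c, hc, rfl⟩ := F.mul' g
  have hca : c * a * c⁻¹ = a := by
    have h1 := congrArg Subtype.val (IsCyclic.commGroup.mul_comm (⟨c, hc⟩ : A) ⟨a, ha⟩)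
    rw [coe_mul, coe_mul] at h1
    rw [h1, mul_inv_cancel_right]
  rw [show b * c * a * (b * c)⁻¹ = b * (c * a * c⁻¹) * b⁻¹ by group, hca] at h
  refine F.inf_eq ha ?_
  simpa [mul_assoc] using mul_mem (mul_mem (inv_mem hb) h) hb

theorem Fac.card_eq (F : Fac G A B) : Nat.card G = Nat.card A * Nat.card B := by
  rw [← Nat.card_prod]
  refine (Nat.card_congr (Equiv.ofBijective (fun v : A × B => (v.1 : G) * v.2) ⟨?_, ?_⟩)).symm
  · rintro ⟨⟨a, ha⟩, ⟨b, hb⟩⟩ ⟨⟨a', ha'⟩, ⟨b', hb'⟩⟩ h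
    simp only at h
    have h1 : a'⁻¹ * a = b' * b⁻¹ := by
      calc a'⁻¹ * a = a'⁻¹ * (a * b) * b⁻¹ := by group
        _ = a'⁻¹ * (a' * b') * b⁻¹ := by rw [h]
        _ = b' * b⁻¹ := by group
    have h2 : a'⁻¹ * a = 1 :=
      F.inf_eq (mul_mem (inv_mem ha') ha) (h1 ▸ mul_mem hb' (inv_mem hb))
    have haa : a' = a := inv_mul_eq_one.1 h2
    subst haa
    rw [mul_right_inj] at h
    subst h
    rfl
  · intro g
    obtain ⟨a, ha, b, hb, rfl⟩ := F.mul g
    exact ⟨(⟨a, ha⟩, ⟨b, hb⟩), rfl⟩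

theorem Fac.two_dvd (F : Fac G A B) : 2 ∣ Nat.card A := by
  haveI : Fact (Nat.Prime 2) := ⟨Nat.prime_two⟩
  by_contra h
  obtain ⟨R⟩ : Nonempty (Sylow 2 B) := inferInstance
  haveI := F.zg
  haveI : IsCyclic R := IsZGroup.isZGroup 2 Nat.prime_two R
  set Q : Subgroup G := (R : Subgroup B).map B.subtype with hQ
  have hQp : IsPGroup 2 Q := R.2.map _
  have hidx : ¬ 2 ∣ Q.index := by
    have h1 : Q.index = (R : Subgroup B).index * B.index := by
      rw [hQ, index_map_subtype]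
    have h2 : B.index = Nat.card A := by
      have e := B.card_mul_index
      rw [F.card_eq, mul_comm (Nat.card A)] at e
      exact Nat.eq_of_mul_eq_mul_left Nat.card_pos e
    rw [h1, h2, Nat.prime_two.dvd_mul]
    exact fun hh => hh.elim R.not_dvd_index h
  refine F.nsol (DGroupCent.isSolvable_of_cyclic_sylow (hQp.toSylow hidx) ?_)
  rw [IsPGroup.toSylow_coe]
  exact isCyclic_of_surjective ((R : Subgroup B).equivMapOfInjective B.subtype B.subtype_injective).toMonoidHom
    ((R : Subgroup B).equivMapOfInjective B.subtype B.subtype_injective).surjective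

/-- A generator of an even cyclic group acts on it as an odd permutation. -/
theorem sign_mulLeft_generator {C : Type*} [Group C] [Fintype C] [DecidableEq C] {g : C}
    (hg : ∀ x, x ∈ zpowers g) (h2 : 2 ∣ Fintype.card C) : Equiv.Perm.sign (Equiv.mulLeft g) = -1 := by
  have hg1 : g ≠ 1 := fun e => by
    have hsub : Fintype.card C = 1 := by
      refine Fintype.card_eq_one_iff.2 ⟨1, fun x => ?_⟩
      obtain ⟨i, rfl⟩ := mem_zpowers_iff.1 (hg x)
      rw [e, one_zpow]
    omega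
  have hmove : ∀ x : C, Equiv.mulLeft g x ≠ x := fun x hx => hg1 (by simpa using hx)
  have hpow : ∀ (n : ℕ) (x : C), ((Equiv.mulLeft g) ^ n) x = g ^ n * x := by
    intro n
    induction n with
    | zero => intro x; simp
    | succ n ih => intro x; rw [pow_succ', Equiv.Perm.mul_apply, ih, Equiv.coe_mulLeft, pow_succ', mul_assoc]
  have hc : (Equiv.mulLeft g).IsCycle := by
    refine ⟨1, hmove 1, fun y _ => ?_⟩
    obtain ⟨n, hn⟩ := (mem_powers_iff_mem_zpowers (x := g) (y := y)).2 (hg y)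
    exact ⟨n, by rw [zpow_natCast, hpow, mul_one]; exact hn⟩
  have hs : (Equiv.mulLeft g).support = Finset.univ :=
    Finset.eq_univ_of_forall fun x => Equiv.Perm.mem_support.2 (hmove x)
  rw [hc.sign, hs, Finset.card_univ, Even.neg_one_pow (even_iff_two_dvd.2 h2)]

theorem Fac.exists_index_two (F : Fac G A B) : ∃ H : Subgroup G, H.index = 2 := by
  classical
  haveI := F.cyc
  haveI := Fintype.ofFinite G
  haveI : Fintype (G ⧸ B) := Fintype.ofFinite _
  let e : A ≃ G ⧸ B := Equiv.ofBijective (fun a => ((a : G) : G ⧸ B)) ⟨fun a a' h => by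
      rw [QuotientGroup.eq] at h
      exact Subtype.ext (inv_mul_eq_one.1 (F.inf_eq (mul_mem (inv_mem a.2) a'.2) h)),
    fun q => by
      obtain ⟨g, rfl⟩ := QuotientGroup.mk_surjective q
      obtain ⟨a, ha, b, hb, rfl⟩ := F.mul g
      exact ⟨⟨a, ha⟩, QuotientGroup.eq.2 (by simpa using hb)⟩⟩
  obtain ⟨a, ha⟩ := IsCyclic.exists_generator (α := A)
  set φ : G →* ℤˣ := Equiv.Perm.sign.comp (MulAction.toPermHom G (G ⧸ B)) with hφ
  have hφa : φ (a : G) = -1 := by
    have h1 : MulAction.toPerm (a : G) = e.permCongr (Equiv.mulLeft a) := Equiv.ext fun q => by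
      obtain ⟨c, rfl⟩ := e.surjective q
      rw [Equiv.permCongr_apply, Equiv.symm_apply_apply]
      rfl
    rw [hφ, MonoidHom.comp_apply, MulAction.toPermHom_apply, h1, Equiv.Perm.sign_permCongr]
    exact sign_mulLeft_generator ha (Nat.card_eq_fintype_card (α := A) ▸ F.two_dvd)
  refine ⟨φ.ker, ?_⟩
  rw [index_ker]
  have hsurj : φ.range = ⊤ := eq_top_iff.2 fun v _ => by
    rcases Int.units_eq_one_or v with rfl | rfl
    · exact one_mem _
    · exact ⟨_, hφa⟩
  rw [hsurj, card_top, Nat.card_eq_fintype_card, Fintype.card_units_int]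

/-- The Sylow 2-subgroup `⟨a⟩⟨d⟩`. -/
theorem Fac.exists_sylow (F : Fac G A B) :
    ∃ (P : Sylow 2 G) (a d : (P : Subgroup G)) (g : G),
      (∀ p : (P : Subgroup G), ∃ i j : ℤ, p = a ^ i * d ^ j) ∧
      (∀ i j : ℤ, a ^ i = d ^ j → a ^ i = 1) ∧
      (∀ (h : G) (i j : ℤ), a ^ i ≠ 1 →
        h * ((a ^ i : (P : Subgroup G)) : G) * h⁻¹ ≠ ((d ^ j : (P : Subgroup G)) : G)) ∧
      ((a : G) ∈ A ∧ ¬ 2 ∣ (zpowers (a : G)).relIndex A) ∧
      (g⁻¹ * (d : G) * g ∈ B ∧
        ¬ 2 ∣ (zpowers (d : G)).relIndex (B.map (MulAut.conj g).toMonoidHom)) := by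
  classical
  haveI : Fact (Nat.Prime 2) := ⟨Nat.prime_two⟩
  haveI := F.cyc
  haveI := F.zg
  obtain ⟨RA⟩ : Nonempty (Sylow 2 A) := inferInstance
  obtain ⟨⟨aA, haA⟩, haR⟩ :=
    (Subgroup.isCyclic_iff_exists_zpowers_eq_top (RA : Subgroup A)).1 inferInstance
  have hamap : zpowers aA = (RA : Subgroup A).map A.subtype := by
    rw [← haR, MonoidHom.map_zpowers]; rfl
  obtain ⟨P, hP⟩ := (RA.2.map A.subtype).exists_le_sylow
  have haP : aA ∈ (P : Subgroup G) := hP (hamap ▸ mem_zpowers aA)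
  have haidx : ¬ 2 ∣ (zpowers aA).relIndex A := by
    rw [hamap, relIndex, ← comap_subtype, comap_map_eq_self_of_injective A.subtype_injective]
    exact RA.not_dvd_index
  have haord : Nat.card A = orderOf aA * (zpowers aA).relIndex A := by
    rw [← Nat.card_zpowers]
    have h1 := card_mul_index ((zpowers aA).subgroupOf A)
    rw [Nat.card_congr (subgroupOfEquivOfLe (zpowers_le.2 haA)).toEquiv] at h1
    exact h1.symm
  have hBA : B.index = Nat.card A := by
    have e := B.card_mul_index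
    rw [F.card_eq, mul_comm (Nat.card A)] at e
    exact Nat.eq_of_mul_eq_mul_left Nat.card_pos e
  -- an orbit of the right size
  obtain ⟨k, hk⟩ : ∃ k, orderOf aA = 2 ^ k := by
    obtain ⟨n, hn⟩ := P.2 ⟨aA, haP⟩
    obtain ⟨k, -, hk⟩ := (Nat.dvd_prime_pow Nat.prime_two).1
      (orderOf_dvd_of_pow_eq_one (x := aA) (congrArg Subtype.val hn :))
    exact ⟨k, hk⟩
  obtain ⟨q, hq⟩ : ∃ q : G ⧸ B, ¬ 2 ^ (k + 1) ∣ Nat.card (MulAction.orbit (P : Subgroup G) q) := by
    by_contra hall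
    push Not at hall
    haveI : Fintype (MulAction.orbitRel.Quotient (P : Subgroup G) (G ⧸ B)) := Fintype.ofFinite _
    have h1 := Nat.card_congr (MulAction.selfEquivSigmaOrbits (P : Subgroup G) (G ⧸ B))
    rw [Nat.card_sigma, ← index_eq_card, hBA] at h1
    have h2 : 2 ^ (k + 1) ∣ Nat.card A := h1 ▸ Finset.dvd_sum fun ω _ => hall _
    rw [haord, hk, pow_succ] at h2
    exact haidx (Nat.dvd_of_mul_dvd_mul_left (Nat.two_pow_pos k) h2)
  obtain ⟨g, rfl⟩ := QuotientGroup.mk_surjective q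
  set Bg : Subgroup G := B.map (MulAut.conj g).toMonoidHom with hBg
  set D : Subgroup G := (P : Subgroup G) ⊓ Bg with hD
  have hBgmem : ∀ w : G, w ∈ Bg ↔ g⁻¹ * w * g ∈ B := fun w => by
    rw [hBg, mem_map]
    constructor
    · rintro ⟨b, hb, rfl⟩; simpa [mul_assoc] using hb
    · intro h; exact ⟨_, h, by simp [mul_assoc]⟩
  have hstab : Nat.card (MulAction.stabilizer (P : Subgroup G) (g : G ⧸ B)) = Nat.card D := by
    have e1 : MulAction.stabilizer (P : Subgroup G) (g : G ⧸ B) = D.subgroupOf (P : Subgroup G) := by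
      ext w
      rw [MulAction.mem_stabilizer_iff, mem_subgroupOf, hD, mem_inf, hBgmem]
      rw [show w • (g : G ⧸ B) = (((w : G) * g : G) : G ⧸ B) from rfl, eq_comm, QuotientGroup.eq,
        ← mul_assoc]
      exact ⟨fun h => ⟨w.2, h⟩, fun h => h.2⟩
    rw [e1, Nat.card_congr (subgroupOfEquivOfLe inf_le_left).toEquiv]
  have horb : Nat.card (MulAction.orbit (P : Subgroup G) (g : G ⧸ B)) *
      Nat.card (MulAction.stabilizer (P : Subgroup G) (g : G ⧸ B)) = Nat.card (P : Subgroup G) := by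
    rw [Nat.card_congr (MulAction.orbitEquivQuotientStabilizer (P : Subgroup G) (g : G ⧸ B)),
      ← index_eq_card, mul_comm, card_mul_index]
  haveI : IsZGroup Bg :=
    IsZGroup.of_surjective (f := ((MulAut.conj g).toMonoidHom.subgroupMap B)) (MonoidHom.subgroupMap_surjective _ B)
  have hDp : IsPGroup 2 D := P.2.to_le inf_le_left
  haveI hDcyc : IsCyclic D := by
    obtain ⟨R, hR⟩ := (hDp.comap_subtype (K := Bg)).exists_le_sylow
    haveI : IsCyclic R := IsZGroup.isZGroup 2 Nat.prime_two R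
    haveI : IsCyclic (D.subgroupOf Bg) := isCyclic_of_injective (inclusion hR) (inclusion_injective hR)
    exact isCyclic_of_surjective (subgroupOfEquivOfLe (inf_le_right : D ≤ Bg)).toMonoidHom
      (subgroupOfEquivOfLe (inf_le_right : D ≤ Bg)).surjective
  obtain ⟨dG, hd⟩ := (Subgroup.isCyclic_iff_exists_zpowers_eq_top D).1 hDcyc
  have hdD : dG ∈ D := hd ▸ mem_zpowers dG
  have hdP : dG ∈ (P : Subgroup G) := hdD.1
  have hdBg : dG ∈ Bg := hdD.2
  have hdisj : ∀ i : ℤ, aA ^ i ∈ Bg → aA ^ i = 1 := fun i h =>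
    F.eq_one_of_conj (g := g⁻¹) (zpow_mem haA i) (by rw [inv_inv]; exact (hBgmem _).1 h)
  -- the product map is a bijection
  have hinj : Function.Injective (fun v : zpowers aA × D =>
      (⟨(v.1 : G) * v.2, mul_mem (hP (hamap ▸ v.1.2)) v.2.2.1⟩ : (P : Subgroup G))) := by
    rintro ⟨⟨_, i, rfl⟩, b⟩ ⟨⟨_, i', rfl⟩, b'⟩ h
    have h0 : aA ^ i * (b : G) = aA ^ i' * b' := congrArg Subtype.val h
    have h1 : aA ^ (-i' + i) = (b' : G) * (b : G)⁻¹ := by
      rw [zpow_add, zpow_neg]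
      calc (aA ^ i')⁻¹ * aA ^ i = (aA ^ i')⁻¹ * (aA ^ i * b) * (b : G)⁻¹ := by group
        _ = (aA ^ i')⁻¹ * (aA ^ i' * b') * (b : G)⁻¹ := by rw [h0]
        _ = (b' : G) * (b : G)⁻¹ := by group
    have h2 : aA ^ (-i' + i) = 1 := hdisj _ (by rw [h1]; exact mul_mem b'.2.2 (inv_mem b.2.2))
    have hii : aA ^ i = aA ^ i' := by
      rw [zpow_add, zpow_neg, inv_mul_eq_one] at h2; exact h2.symm
    rw [hii, mul_right_inj] at h0
    exact Prod.ext (Subtype.ext hii) (Subtype.ext h0)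
  have hP2 : ∃ t, Nat.card (MulAction.orbit (P : Subgroup G) (g : G ⧸ B)) = 2 ^ t := by
    obtain ⟨n, hn⟩ := P.2.exists_card_eq
    obtain ⟨t, -, ht⟩ := (Nat.dvd_prime_pow Nat.prime_two).1
      (hn ▸ Dvd.intro _ horb :
        Nat.card (MulAction.orbit (P : Subgroup G) (g : G ⧸ B)) ∣ 2 ^ n)
    exact ⟨t, ht⟩
  have hle : Nat.card (P : Subgroup G) ≤ Nat.card (zpowers aA × D) := by
    obtain ⟨t, ht⟩ := hP2
    rw [ht] at hq
    have htk : t ≤ k := by
      by_contra hh
      exact hq (pow_dvd_pow 2 (by omega))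
    rw [Nat.card_prod, Nat.card_zpowers, hk, ← hstab]
    have horb' : 2 ^ t * Nat.card (MulAction.stabilizer (P : Subgroup G) (g : G ⧸ B)) =
        Nat.card (P : Subgroup G) := by
      rw [← ht]
      exact horb
    rw [← horb']
    exact Nat.mul_le_mul_right _ (Nat.pow_le_pow_right two_pos htk)
  have hbij := (Nat.bijective_iff_injective_and_card _).2
    ⟨hinj, le_antisymm (Nat.card_le_card_of_injective _ hinj) hle⟩
  refine ⟨P, ⟨aA, haP⟩, ⟨dG, hdP⟩, g, fun p => ?_, fun i j h => ?_, fun h i j hi e => ?_,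
    ⟨haA, haidx⟩, (hBgmem _).1 hdBg, ?_⟩
  · obtain ⟨⟨⟨_, i, rfl⟩, b⟩, hb⟩ := hbij.2 p
    obtain ⟨j, hj⟩ := mem_zpowers_iff.1 (hd.ge b.2)
    exact ⟨i, j, Subtype.ext (by rw [← hb]; simp [hj])⟩
  · refine Subtype.ext ?_
    have h' : aA ^ i = dG ^ j := by simpa using congrArg Subtype.val h
    simpa using hdisj i (h' ▸ zpow_mem hdBg j)
  · refine hi (Subtype.ext ?_)
    have e' : h * aA ^ i * h⁻¹ = dG ^ j := by simpa using e
    simpa using F.eq_one_of_conj (g := g⁻¹ * h) (zpow_mem haA i) (by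
      rw [show g⁻¹ * h * aA ^ i * (g⁻¹ * h)⁻¹ = g⁻¹ * (h * aA ^ i * h⁻¹) * g by group, e']
      exact (hBgmem _).1 (zpow_mem hdBg j))
  · -- `|Bg : D|` is odd
    rw [hd]
    have hcard : Nat.card (P : Subgroup G) = orderOf aA * Nat.card D := by
      rw [← Nat.card_zpowers, ← Nat.card_prod]
      exact (Nat.card_congr (Equiv.ofBijective _ hbij)).symm
    intro h2
    have e1 := card_mul_index (D.subgroupOf Bg)
    rw [Nat.card_congr (subgroupOfEquivOfLe (inf_le_right : D ≤ Bg)).toEquiv] at e1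
    have e2 : Nat.card Bg = Nat.card B :=
      (Nat.card_congr (B.equivMapOfInjective _ (MulAut.conj g).injective).toEquiv).symm
    rw [e2] at e1
    have h3 : Nat.card (P : Subgroup G) * 2 ∣ Nat.card G := by
      rw [F.card_eq, hcard, haord, ← e1]
      obtain ⟨s, hs⟩ := h2
      rw [show (D.subgroupOf Bg).index = D.relIndex Bg from rfl, hs]
      exact ⟨(zpowers aA).relIndex A * s, by ring⟩
    rw [← (P : Subgroup G).card_mul_index] at h3
    exact P.not_dvd_index (Nat.dvd_of_mul_dvd_mul_left Nat.card_pos h3)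

end Cfsg.Agent.CyclicTimesZ
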