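import Cfsg.Agent.Lib.CyclicTimesZ.Basic
import Cfsg.Agent.Lib.PSL2.DicksonOrders
import Cfsg.Agent.Lib.PSL2.MinimalSimple
import Cfsg.Agent.Lib.PSL2.MaximalPGL
import Cfsg.Agent.Lib.AutPSLOrder.Main
import Cfsg.Agent.S2119
import Cfsg.Agent.Lib.Frobenius.CoreQuotient
import Mathlib.GroupTheory.Perm.Cycle.Type

/-!
# The known simple groups with dihedral Sylow 2-subgroups in a cyclic-times-Z-group

`G = L A = L B` gives `|L| = |A| |B ∩ L|`.  `A` acts faithfully on `L`, so `|A|` is at most the largest order of an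
automorphism, and `B ∩ L` is a Z-group:

* `false_of_seven`: `|A| ≤ 12`, `|B ∩ L| ≤ 12²`;
* `card_prime`: `|A| ≤ q + 1`, and by Dickson a Z-subgroup of `PSL(2, q)` of order `≥ q (q - 1) / 2` forces `q`
  prime.
-/

set_option autoImplicit false
set_option linter.unusedSectionVars false
set_option linter.style.haveILetI false

namespace Cfsg.Agent.CyclicTimesZ

open Subgroup
open scoped MatrixGroups

universe u

variable {G : Type u} [Group G] [Finite G] {A B L : Subgroup G}

/-- A Z-group has order at most the square of its element orders. -/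
theorem card_le_sq {H : Type*} [Group H] [Finite H] [IsZGroup H] {M : ℕ} (hM : ∀ x : H, orderOf x ≤ M) :
    Nat.card H ≤ M * M := by
  rw [← (commutator H).card_mul_index]
  refine Nat.mul_le_mul ?_ ?_
  · haveI := IsZGroup.isCyclic_commutator (G := H)
    obtain ⟨c, hc⟩ := IsCyclic.exists_generator (α := commutator H)
    rw [← orderOf_eq_card_of_forall_mem_zpowers hc, ← Subgroup.orderOf_coe]
    exact hM c
  · haveI := IsZGroup.isCyclic_abelianization (G := H)
    obtain ⟨c, hc⟩ := IsCyclic.exists_generator (α := Abelianization H)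
    obtain ⟨x, rfl⟩ := QuotientGroup.mk'_surjective (commutator H) c
    rw [index_eq_card]
    refine (orderOf_eq_card_of_forall_mem_zpowers hc).symm.trans_le ((Nat.le_of_dvd (orderOf_pos x) ?_).trans (hM x))
    exact orderOf_map_dvd _ x

/-- Elements of `S₇` have order at most 12. -/
theorem orderOf_perm_seven_le (σ : Equiv.Perm (Fin 7)) : orderOf σ ≤ 12 := by
  rw [← Equiv.Perm.lcm_cycleType]
  have hsum : σ.cycleType.sum ≤ 7 := by simpa using σ.sum_cycleType_le
  have h2 : ∀ x ∈ σ.cycleType, 2 ≤ x := fun x hx => Equiv.Perm.two_le_of_mem_cycleType hx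
  generalize σ.cycleType = s at hsum h2 ⊢
  have hprod : s.prod ≤ 12 ∧ 0 < s.prod := by
    rcases Multiset.empty_or_exists_mem s with rfl | ⟨x, hx⟩
    · simp
    obtain ⟨r, rfl⟩ := Multiset.exists_cons_of_mem hx
    have hx2 := h2 x (Multiset.mem_cons_self _ _)
    simp only [Multiset.sum_cons] at hsum
    simp only [Multiset.prod_cons]
    rcases Multiset.empty_or_exists_mem r with rfl | ⟨y, hy⟩
    · simp only [Multiset.prod_zero, mul_one, Multiset.sum_zero, add_zero] at hsum ⊢; omega
    obtain ⟨r', rfl⟩ := Multiset.exists_cons_of_mem hy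
    have hy2 := h2 y (Multiset.mem_cons_of_mem (Multiset.mem_cons_self _ _))
    simp only [Multiset.sum_cons] at hsum
    simp only [Multiset.prod_cons]
    rcases Multiset.empty_or_exists_mem r' with rfl | ⟨z, hz⟩
    · simp only [Multiset.prod_zero, mul_one, Multiset.sum_zero, add_zero] at hsum ⊢
      have hx5 : x ≤ 5 := by omega
      interval_cases x <;> omega
    obtain ⟨r'', rfl⟩ := Multiset.exists_cons_of_mem hz
    have hz2 := h2 z (Multiset.mem_cons_of_mem (Multiset.mem_cons_of_mem (Multiset.mem_cons_self _ _)))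
    simp only [Multiset.sum_cons] at hsum
    simp only [Multiset.prod_cons]
    rcases Multiset.empty_or_exists_mem r'' with rfl | ⟨w, hw⟩
    swap
    · have := Multiset.le_sum_of_mem hw
      have := h2 w (Multiset.mem_cons_of_mem (Multiset.mem_cons_of_mem (Multiset.mem_cons_of_mem hw)))
      omega
    simp only [Multiset.prod_zero, mul_one, Multiset.sum_zero, add_zero] at hsum ⊢
    have hx3 : x ≤ 3 := by omega
    have hy3 : y ≤ 3 := by omega
    interval_cases x <;> interval_cases y <;> omega
  refine le_trans (Nat.le_of_dvd hprod.2 ?_) hprod.1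
  exact Multiset.lcm_dvd.2 fun x hx => Multiset.dvd_prod hx

/-- A group acts faithfully on a self-centralising normal subgroup. -/
theorem exists_mulAut_embedding [L.Normal] (hC : centralizer (L : Set G) = ⊥) {T : Type*} [Group T]
    (e : L ≃* T) : ∃ ψ : G →* MulAut T, Function.Injective ψ := by
  refine ⟨(MulAut.congr e).toMonoidHom.comp MulAut.conjNormal,
    (MulAut.congr e).injective.comp ((injective_iff_map_eq_one _).2 fun g hg => ?_)⟩
  have hmem : g ∈ centralizer (L : Set G) := mem_centralizer_iff.2 fun x hx => by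
    have h1 := congrArg Subtype.val (DFunLike.congr_fun hg ⟨x, hx⟩)
    rw [MulAut.conjNormal_apply] at h1
    simp only [MulAut.one_apply] at h1
    exact (mul_inv_eq_iff_eq_mul.1 h1).symm
  rwa [hC, mem_bot] at hmem

/-- `|L| = |A| |B ∩ L|`. -/
theorem Fac.card_normal (F : Fac G A B) [L.Normal] (hLB : L ⊔ B = ⊤) :
    Nat.card L = Nat.card A * Nat.card (B.subgroupOf L) := by
  set π : B →* G ⧸ L := (QuotientGroup.mk' L).comp B.subtype with hπ
  have hsurj : Function.Surjective π := fun q => by
    obtain ⟨g, rfl⟩ := QuotientGroup.mk_surjective q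
    have hg : g ∈ L ⊔ B := hLB ▸ mem_top g
    obtain ⟨l, hl, b, hb, rfl⟩ := mem_sup_of_normal_left.1 hg
    refine ⟨⟨b, hb⟩, QuotientGroup.eq.2 ?_⟩
    show b⁻¹ * (l * b) ∈ L
    rw [← mul_assoc]
    exact Normal.conj_mem' inferInstance l hl b
  have hker : Nat.card π.ker = Nat.card (B.subgroupOf L) := by
    refine Nat.card_congr
      { toFun := fun b => ⟨⟨(b.1 : G), (QuotientGroup.eq_one_iff _).1 b.2⟩, b.1.2⟩
        invFun := fun l => ⟨⟨(l.1 : G), l.2⟩, (QuotientGroup.eq_one_iff _).2 l.1.2⟩
        left_inv := fun _ => rfl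
        right_inv := fun _ => rfl }
  have e1 := π.ker.card_mul_index
  rw [index_ker, MonoidHom.range_eq_top.2 hsurj, card_top, hker, ← index_eq_card] at e1
  have e2 := L.card_mul_index
  rw [F.card_eq, ← e1, ← mul_assoc] at e2
  exact Nat.eq_of_mul_eq_mul_right (Nat.pos_of_ne_zero index_ne_zero_of_finite) e2

/-- `|A|` is an element order. -/
theorem Fac.exists_orderOf (F : Fac G A B) : ∃ a : G, orderOf a = Nat.card A := by
  haveI := F.cyc
  obtain ⟨a, ha⟩ := IsCyclic.exists_generator (α := A)
  exact ⟨a, by rw [Subgroup.orderOf_coe, orderOf_eq_card_of_forall_mem_zpowers ha]⟩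

theorem Fac.isZGroup_image (F : Fac G A B) {T : Type*} [Group T] (e : L ≃* T) :
    IsZGroup ((B.subgroupOf L).map e.toMonoidHom) := by
  haveI := F.zg
  haveI : IsZGroup (B.subgroupOf L) := IsZGroup.of_injective
    (f := (L.subtype.comp (B.subgroupOf L).subtype).codRestrict B fun l => l.2)
    fun x y h => Subtype.ext (Subtype.ext (congrArg Subtype.val h :))
  exact IsZGroup.of_surjective (f := e.toMonoidHom.subgroupMap (B.subgroupOf L))
    (MonoidHom.subgroupMap_surjective _ _)

/-- The simple normal subgroup is not `A₇`. -/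
theorem Fac.false_of_seven (F : Fac G A B) [L.Normal] (hC : centralizer (L : Set G) = ⊥) (hLB : L ⊔ B = ⊤)
    (e : L ≃* alternatingGroup (Fin 7)) : False := by
  obtain ⟨ψ, hψ⟩ := exists_mulAut_embedding hC e
  have hS := S2119.result 7 (by norm_num) (by norm_num)
  have hA : Nat.card A ≤ 12 := by
    obtain ⟨a, ha⟩ := F.exists_orderOf
    obtain ⟨σ, hσ⟩ := hS.2 (ψ a)
    rw [← ha, ← orderOf_injective ψ hψ a, ← hσ, orderOf_injective _ hS.1]
    exact orderOf_perm_seven_le σ
  haveI := F.isZGroup_image e
  have hH := card_le_sq (H := (B.subgroupOf L).map e.toMonoidHom) (M := 12) fun x => by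
    rw [← Subgroup.orderOf_coe, ← Subgroup.orderOf_coe]
    exact orderOf_perm_seven_le _
  rw [← Nat.card_congr ((B.subgroupOf L).equivMapOfInjective _ e.injective).toEquiv] at hH
  have h1 := F.card_normal hLB
  rw [Nat.card_congr e.toEquiv, nat_card_alternatingGroup, Nat.card_fin] at h1
  have := Nat.mul_le_mul hA hH
  rw [← h1] at this
  norm_num [Nat.factorial] at this

section PSL

variable {K : Type} [Field K] [Fintype K]

/-- A Z-subgroup of `PSL(2, q)`, `q` odd, of order at least `q (q - 1) / 2` forces `q` to be prime. -/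
theorem prime_of_large_zGroup (hodd : Odd (Fintype.card K)) (H : Subgroup PSL(2, K)) [IsZGroup H]
    (hH : Fintype.card K * (Fintype.card K - 1) ≤ 2 * Nat.card H) : (Fintype.card K).Prime := by
  obtain ⟨f, hp, hcard⟩ := FiniteField.card K (ringChar K)
  haveI := Fact.mk hp
  set p := ringChar K
  set q := Fintype.card K with hq
  by_contra hnp
  have hf : 2 ≤ (f : ℕ) := by
    by_contra hh
    have : (f : ℕ) = 1 := by have := f.pos; omega
    rw [this, pow_one] at hcard
    exact hnp (hcard ▸ hp)
  have hpq : p * p ≤ q := by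
    rw [hcard, ← pow_two]; exact Nat.pow_le_pow_right hp.pos hf
  have hp3 : 3 ≤ p := by
    rcases Nat.lt_or_ge p 3 with h | h
    · exfalso
      have : p = 2 := by have := hp.two_le; omega
      rw [hcard, this] at hodd
      exact Nat.not_even_iff_odd.2 hodd (Nat.even_pow.2 ⟨even_two, f.pos.ne'⟩)
    · exact h
  have hq9 : 9 ≤ q := le_trans (Nat.mul_le_mul hp3 hp3) hpq
  have hgcd : Nat.gcd 2 (q - 1) = 2 := by
    obtain ⟨k, hk⟩ := hodd
    exact Nat.gcd_eq_left ⟨k, by omega⟩
  have h36 : 36 ≤ Nat.card H := by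
    have : 9 * 8 ≤ q * (q - 1) := Nat.mul_le_mul hq9 (by omega)
    omega
  rcases PSL2.dickson p H with ⟨k, hk, hs⟩ | ⟨P, hP⟩ | h | h | h | ⟨J, iJ, iJ', m, hJ, hs⟩
  · have hk' : k ≤ (q + 1) / 2 := by
      rw [hgcd] at hk
      rcases hk with h | h
      · exact Nat.le_of_dvd (by omega) h
      · exact (Nat.le_of_dvd (by omega) h).trans (Nat.div_le_div_right (by omega))
    have hHk : Nat.card H ≤ 2 * k := by
      rcases hs with ⟨-, h⟩ | ⟨⟨e⟩⟩
      · omega
      · rw [Nat.card_congr e.toEquiv, DihedralGroup.nat_card]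
    have h1 : q * 8 ≤ q * (q - 1) := Nat.mul_le_mul_left q (by omega)
    omega
  · set N := normalizer ((P : Subgroup PSL(2, K)) : Set PSL(2, K)) with hN
    have hPc : Nat.card (P : Subgroup PSL(2, K)) = q := by
      rw [hq, ← PSL2.card_map_unip (F := K), ← PSL2.coe_unipSylowPSL p]
      exact Sylow.card_eq_multiplicity P |>.trans (Sylow.card_eq_multiplicity _).symm
    have hN2 := PSL2.card_normalizer_sylow p P
    rw [hgcd, ← hN] at hN2
    -- the part in `P` has order at most `p`
    set Q : Subgroup H := (P : Subgroup PSL(2, K)).subgroupOf H with hQ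
    have hQp : IsPGroup p Q := P.2.comap_subtype
    haveI : IsCyclic Q := hQp.isCyclic_of_isZGroup
    have hQle : Nat.card Q ≤ p := by
      obtain ⟨c, hc⟩ := IsCyclic.exists_generator (α := Q)
      rw [← orderOf_eq_card_of_forall_mem_zpowers hc]
      obtain ⟨i, hi⟩ := (hQp c)
      obtain ⟨j, -, hj⟩ := (Nat.dvd_prime_pow hp).1 (orderOf_dvd_of_pow_eq_one hi)
      have hco : orderOf c = orderOf (((c : H) : PSL(2, K))) := by
        rw [Subgroup.orderOf_coe, Subgroup.orderOf_coe]
      have key := PSL2.psl_orderOf_dvd p ((c : H) : PSL(2, K))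
      rw [← hco, hj, hgcd] at key
      have hpq' : p ∣ q := PSL2.p_dvd_q p
      have hp2 : ¬ p ∣ 2 := fun h => by have := Nat.le_of_dvd two_pos h; omega
      rcases key with h | h | h
      · rw [hj]; exact Nat.le_of_dvd hp.pos h
      all_goals
        rw [hj]
        rcases Nat.eq_zero_or_pos j with rfl | hj0
        · rw [pow_zero]; omega
        exfalso
        have h1 : p ∣ _ := (dvd_pow_self p hj0.ne').trans h
        have h2 := h1.mul_left 2
      · rw [Nat.mul_div_cancel' (hgcd ▸ Nat.gcd_dvd_right 2 (q - 1))] at h2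
        have h3 : p ∣ q - 1 := h2
        have h4 := Nat.dvd_sub hpq' h3
        rw [show q - (q - 1) = 1 by omega] at h4
        exact hp.not_dvd_one h4
      · have heven : 2 ∣ q + 1 := by obtain ⟨k, hk⟩ := hodd; exact ⟨k + 1, by omega⟩
        rw [Nat.mul_div_cancel' heven] at h2
        have h3 : p ∣ q + 1 := h2
        have h4 := Nat.dvd_sub h3 hpq'
        rw [show q + 1 - q = 1 by omega] at h4
        exact hp.not_dvd_one h4
    have hrel : Q.index ≤ (P : Subgroup PSL(2, K)).relIndex N := by
      show (P : Subgroup PSL(2, K)).relIndex H ≤ _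
      exact relIndex_le_of_le_right hP index_ne_zero_of_finite
    have hPN : Nat.card (P : Subgroup PSL(2, K)) * (P : Subgroup PSL(2, K)).relIndex N = Nat.card N := by
      have e := ((P : Subgroup PSL(2, K)).subgroupOf N).card_mul_index
      rwa [Nat.card_congr (subgroupOfEquivOfLe le_normalizer).toEquiv] at e
    rw [hPc] at hPN
    have hr : 2 * (P : Subgroup PSL(2, K)).relIndex N = q - 1 := by
      refine Nat.eq_of_mul_eq_mul_left (show 0 < q by omega) ?_
      rw [mul_left_comm, hPN, mul_comm q]
      exact hN2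
    have h1 : 2 * Nat.card H ≤ p * (q - 1) := by
      rw [← Q.card_mul_index, ← hr, mul_left_comm]
      exact Nat.mul_le_mul hQle (Nat.mul_le_mul_left 2 hrel)
    have h2 : p * (q - 1) < q * (q - 1) := (Nat.mul_lt_mul_right (by omega)).2 (by nlinarith)
    omega
  · obtain ⟨e⟩ := h
    rw [Nat.card_congr e.toEquiv, nat_card_alternatingGroup, Nat.card_fin] at h36
    norm_num [Nat.factorial] at h36
  · obtain ⟨e⟩ := h
    rw [Nat.card_congr e.toEquiv, Nat.card_perm, Nat.card_fin] at h36
    norm_num [Nat.factorial] at h36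
  · obtain ⟨e⟩ := h
    have hsol : Group.IsSolvable (alternatingGroup (Fin 5)) :=
      Group.isSolvable_of_surjective (f := e.toMonoidHom) e.surjective
    exact CoreQuotient.not_isSolvable_alternatingFive hsol
  · have hJo : Odd (Fintype.card J) := by
      rcases Nat.even_or_odd (Fintype.card J) with he | ho
      · exfalso
        have hm : m ≠ 0 := by rintro rfl; rw [pow_zero] at hJ; omega
        exact Nat.not_even_iff_odd.2 hodd (by rw [hq, ← hJ]; exact Nat.even_pow.2 ⟨he, hm⟩)
      · exact ho
    rcases Nat.lt_or_ge (Fintype.card J) 4 with hsmall | hbig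
    · have hJ3 : Fintype.card J = 3 := by
        have := Fintype.one_lt_card (α := J)
        obtain ⟨k, hk⟩ := hJo
        omega
      have hP := PSL2.two_mul_card_PSL (F := J) (PSL2.odd_card_iff.1 hJo)
      rw [hJ3] at hP
      norm_num at hP
      rcases hs with ⟨⟨e⟩⟩ | ⟨⟨e⟩⟩
      · rw [Nat.card_congr e.toEquiv] at h36; omega
      · rw [Nat.card_congr e.toEquiv, PSL2.Maximal.card_pgl_eq hJo] at h36; omega
    · refine PSL2.not_isSolvable_psl hbig ?_
      rcases hs with ⟨⟨e⟩⟩ | ⟨⟨e⟩⟩
      · exact Group.isSolvable_of_surjective (f := e.toMonoidHom) e.surjective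
      · exact Group.isSolvable_of_isSolvable_injective (f := e.symm.toMonoidHom.comp (PSL2.Maximal.psi (F := J)))
          (e.symm.injective.comp PSL2.Maximal.psi_injective)

/-- The field is a prime field. -/
theorem Fac.card_prime (F : Fac G A B) [L.Normal] (hC : centralizer (L : Set G) = ⊥) (hLB : L ⊔ B = ⊤)
    (hodd : Odd (Fintype.card K)) (e : L ≃* PSL(2, K)) : (Fintype.card K).Prime := by
  obtain ⟨ψ, hψ⟩ := exists_mulAut_embedding hC e
  have hne4 : Fintype.card K ≠ 4 := fun h => by rw [h] at hodd; exact absurd hodd (by decide)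
  have hA : Nat.card A ≤ Fintype.card K + 1 := by
    obtain ⟨a, ha⟩ := F.exists_orderOf
    rw [← ha, ← orderOf_injective ψ hψ a, ← AutPSLOrder.geom_two]
    exact AutPSLOrder.order_le (m := 1) le_rfl (fun h => hne4 h.2) (fun h => by simp at h) (ψ a)
  haveI := F.isZGroup_image e
  refine prime_of_large_zGroup hodd ((B.subgroupOf L).map e.toMonoidHom) ?_
  rw [← Nat.card_congr ((B.subgroupOf L).equivMapOfInjective _ e.injective).toEquiv]
  have h1 := F.card_normal hLB
  have h2 := PSL2.two_mul_card_PSL (F := K) (PSL2.odd_card_iff.1 hodd)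
  rw [← Nat.card_congr e.toEquiv, h1] at h2
  have hsq : Fintype.card K ^ 2 - 1 = (Fintype.card K + 1) * (Fintype.card K - 1) := by
    rw [← Nat.sq_sub_sq, one_pow]
  refine Nat.le_of_mul_le_mul_left ?_ (Nat.succ_pos (Fintype.card K))
  calc (Fintype.card K).succ * (Fintype.card K * (Fintype.card K - 1))
      = 2 * (Nat.card A * Nat.card (B.subgroupOf L)) := by rw [h2, hsq, Nat.succ_eq_add_one]; ring
    _ ≤ 2 * ((Fintype.card K).succ * Nat.card (B.subgroupOf L)) :=
        Nat.mul_le_mul_left 2 (Nat.mul_le_mul_right _ hA)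
    _ = (Fintype.card K).succ * (2 * Nat.card (B.subgroupOf L)) := by ring

end PSL

end Cfsg.Agent.CyclicTimesZ
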