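import Cfsg.Agent.Lib.Bicyclic2.Structure
import Cfsg.Agent.Lib.Bicyclic2.Omega
import Cfsg.Agent.Lib.DGroupCent.Semidihedral
import Cfsg.Agent.Lib.Fusion.Group
import Cfsg.Agent.Lib.PGroup.MetacyclicTwo
import Cfsg.Agent.S5217

/-!
# A bicyclic Sylow 2-subgroup of a nonsolvable group

`bicyclic_facts`: the derived subgroup is cyclic, there is a metacyclic subgroup of index at most two and the
Frattini subgroup has at most three involutions.
-/

set_option autoImplicit false
set_option linter.unusedSectionVars false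

namespace Cfsg.Agent.CyclicTimesZ

open Subgroup

universe u

/-- What is used about a bicyclic Sylow 2-subgroup. -/
structure Facts (T : Type u) [Group T] : Prop where
  cyclic : IsCyclic (commutator T)
  index : ∃ H : Subgroup T, Cfsg.IsMetacyclic ↥H ∧ ∀ a b, a ∉ H → b ∉ H → a * b ∈ H
  frattini : ∀ u ∈ _root_.frattini T, ∀ v ∈ _root_.frattini T, ∀ w ∈ _root_.frattini T, u * u = 1 →
    v * v = 1 → w * w = 1 → u ≠ 1 → v ≠ 1 → u ≠ v → w = 1 ∨ w = u ∨ w = v ∨ w = u * v

variable {G : Type u} [Group G] [Finite G]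

theorem isCyclic_commutator_of_metacyclic {T : Type u} [Group T] (h : Cfsg.IsMetacyclic T) :
    IsCyclic (commutator T) := by
  obtain ⟨N, hN, hc, hq⟩ := h
  haveI := hN; haveI := hc; haveI := hq
  have hle : commutator T ≤ N := by
    rw [commutator_def, Subgroup.commutator_le]
    exact fun a _ b _ => PGroup.MetacyclicTwo.comm_of_cyclic_quotient N a b
  exact isCyclic_of_injective (inclusion hle) (inclusion_injective hle)

theorem bicyclic_facts (P : Sylow 2 G) {x z : (P : Subgroup G)}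
    (hxz : ∀ g : (P : Subgroup G), ∃ i j : ℤ, g = x ^ i * z ^ j) (hns : ¬ Group.IsSolvable G) :
    Facts (P : Subgroup G) := by
  haveI : Fact (Nat.Prime 2) := ⟨Nat.prime_two⟩
  by_cases hm : Cfsg.IsMetacyclic (P : Subgroup G)
  · refine ⟨isCyclic_commutator_of_metacyclic hm, ⟨⊤, Bicyclic2.isMetacyclic_subgroup hm ⊤,
      fun a b ha => absurd (mem_top a) ha⟩, fun u hu v hv w hw => ?_⟩
    exact Bicyclic2.four_mem_frattini P.2 (Bicyclic2.isMetacyclic_subgroup hm _) hu hv hw
  · obtain ⟨hgen, hΦ, M, hM, hMm⟩ := Bicyclic2.structure_bicyclic P.2 (x := x) (y := z) ⟨hxz⟩ hm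
    refine ⟨(S5217.result P.2 ⟨x, z, hxz⟩ hm).1 ⟨Cfsg.groupFusionSystem (P : Subgroup G),
      Fusion.groupFusionSystem_saturated P, fun hinner => hns ?_⟩, ⟨M, hMm, fun a b ha hb =>
        (mul_mem_iff_of_index_two hM).2 (iff_of_false ha hb)⟩,
      fun u hu v hv w hw => Bicyclic2.four_mem_frattini P.2 hΦ hu hv hw⟩
    refine DGroupCent.isSolvable_of_complement (Transfer.hasNormalPComplement_of_own_fusion P ?_)
    intro a ha g hga
    have hφ : Cfsg.conjHom (zpowers a) g ∈
        (Cfsg.groupFusionSystem (P : Subgroup G)).Hom (zpowers a) := by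
      refine ⟨zpowers_le.2 ha, ?_, g, fun _ => rfl⟩
      rintro ⟨_, i, rfl⟩
      show g * a ^ i * g⁻¹ ∈ (P : Subgroup G)
      rw [← conj_zpow]
      exact zpow_mem hga _
    rw [hinner] at hφ
    obtain ⟨-, h, hh, hx⟩ := hφ
    exact ⟨h, hh, (hx ⟨a, mem_zpowers a⟩).symm⟩

end Cfsg.Agent.CyclicTimesZ
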