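import Cfsg.Agent.Lib.CyclicTimesZ.Shape
import Cfsg.Agent.Lib.Bicyclic2.LemmaV

/-!
# The derived subgroup of `P` and the action of the generators on it

* `Normal.exists_gen`: `c = [x, y]` generates the derived subgroup and `y` inverts it;
* `Normal.commute_top`: the involution `x ^ 2^(r-1)` centralises it.
-/

set_option autoImplicit false
set_option linter.unusedSectionVars false

namespace Cfsg.Agent.CyclicTimesZ

open Subgroup
open scoped commutatorElement

universe u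

variable {G : Type u} [Group G] [Finite G] {P : Sylow 2 G} {x z y : (P : Subgroup G)} {r : ℕ}

theorem mem_commutator_of_eq {T : Type*} [Group T] {p q : T}
    (h : Abelianization.of p = Abelianization.of q) : p * q⁻¹ ∈ commutator T := by
  rw [← Abelianization.ker_of, MonoidHom.mem_ker, map_mul, map_inv, h, mul_inv_cancel]

theorem of_eq_one_of_mem {T : Type*} [Group T] {p : T} (h : p ∈ commutator T) :
    Abelianization.of p = 1 := by
  rwa [← Abelianization.ker_of, MonoidHom.mem_ker] at h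

/-- Squaring raises the level of a congruence to one. -/
theorem dvd_sq_sub_one {σ : ℤ} {l : ℕ} (hl : 1 ≤ l) (h : (2 : ℤ) ^ l ∣ σ - 1) (s : ℕ) :
    (2 : ℤ) ^ (l + s) ∣ σ ^ 2 ^ s - 1 := by
  induction s with
  | zero => simpa using h
  | succ s ih =>
    obtain ⟨k, hk⟩ := ih
    obtain ⟨l', rfl⟩ := Nat.exists_eq_add_of_le hl
    refine ⟨k + 2 ^ (l' + s) * k * k, ?_⟩
    rw [pow_succ 2 s, pow_mul, sq, show σ ^ 2 ^ s = 1 + 2 ^ (1 + l' + s) * k by linear_combination hk,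
      show 1 + l' + (s + 1) = l' + s + 2 by ring, show 1 + l' + s = l' + s + 1 by ring, pow_succ,
      pow_succ]
    ring

theorem Normal.exists_gen (N : Normal P x z y r) (hy2 : y * y = 1)
    (hcyc : IsCyclic (commutator (P : Subgroup G))) (hne : commutator (P : Subgroup G) ≠ ⊥) :
    ∃ c : (P : Subgroup G), (∀ p, p ∈ commutator (P : Subgroup G) ↔ p ∈ zpowers c) ∧
      c ≠ 1 ∧ y * c * y⁻¹ = c⁻¹ := by
  haveI : Fact (Nat.Prime 2) := ⟨Nat.prime_two⟩
  obtain ⟨d, hd⟩ := (Subgroup.isCyclic_iff_exists_zpowers_eq_top (commutator (P : Subgroup G))).1 hcyc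
  have hdmem : d ∈ commutator (P : Subgroup G) := hd ▸ mem_zpowers d
  have hd1 : d ≠ 1 := fun h => hne (by rw [← hd, h, zpowers_one_eq_bot])
  have hgen : closure ({x, y} : Set (P : Subgroup G)) = ⊤ := by
    refine frattini_nongenerating (eq_top_iff.2 fun p _ => ?_)
    obtain ⟨a, e, he⟩ := N.form p
    have h1 : p * (x ^ a * y ^ e)⁻¹ ∈ frattini (P : Subgroup G) :=
      PGroup.commutator_le_frattini P.2 (mem_commutator_of_eq (by rw [he, map_mul, map_zpow, map_zpow]))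
    rw [show p = p * (x ^ a * y ^ e)⁻¹ * (x ^ a * y ^ e) by rw [inv_mul_cancel_right]]
    exact mul_mem (mem_sup_right h1) (mem_sup_left (mul_mem
      (zpow_mem (subset_closure (by simp)) a) (zpow_mem (subset_closure (by simp)) e)))
  haveI hn : (zpowers (d * d)).Normal := by
    refine ⟨fun w hw g => ?_⟩
    obtain ⟨i, rfl⟩ := mem_zpowers_iff.1 hw
    rw [← conj_zpow, show g * (d * d) * g⁻¹ = (g * d * g⁻¹) * (g * d * g⁻¹) by group]
    have h1 : g * d * g⁻¹ ∈ zpowers d := by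
      rw [hd]; exact (inferInstance : (commutator (P : Subgroup G)).Normal).conj_mem d hdmem g
    obtain ⟨j, hj⟩ := mem_zpowers_iff.1 h1
    rw [← hj, ← zpow_add, ← two_mul, zpow_mul, zpow_two, ← zpow_mul]
    exact zpow_mem_zpowers _ _
  set c := ⁅x, y⁆ with hc
  have hcmem : c ∈ commutator (P : Subgroup G) := commutator_mem_commutator (mem_top _) (mem_top _)
  obtain ⟨i, hi⟩ := mem_zpowers_iff.1 (hd ▸ hcmem : c ∈ zpowers d)
  have hodd : ¬ 2 ∣ i := by
    rintro ⟨q, rfl⟩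
    have h1 : commutator (P : Subgroup G) ≤ zpowers (d * d) := Bicyclic2.commutator_le_of_mem hgen (by
      rw [← hc, ← hi, zpow_mul, zpow_two]; exact zpow_mem_zpowers _ _)
    obtain ⟨j, hj⟩ := mem_zpowers_iff.1 (h1 hdmem)
    have h3 : d ^ (2 * j - 1) = 1 := by
      rw [zpow_sub, zpow_mul, zpow_two, hj, zpow_one, mul_inv_cancel]
    obtain ⟨k, -, hk'⟩ := exists_zpow_odd P.2 (a := d) (i := 2 * j - 1) (by omega)
    exact hd1 (by rw [← hk', h3, one_zpow])
  obtain ⟨k, -, hk⟩ := exists_zpow_odd P.2 (a := d) hodd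
  have hz : zpowers c = zpowers d :=
    le_antisymm (zpowers_le.2 (hi ▸ zpow_mem_zpowers d i))
      (zpowers_le.2 (by rw [← hk, hi]; exact zpow_mem_zpowers c k))
  refine ⟨c, fun p => by rw [hz, hd], fun h => hd1 (by rw [← hk, hi, h, one_zpow]), ?_⟩
  have h1 : (c * y) * (c * y) = 1 := by
    rw [hc, commutatorElement_def, inv_mul_cancel_right]
    exact conj_sq x hy2
  rw [eq_inv_iff_mul_eq_one, inv_eq_of_mul_eq_one_right hy2,
    show y * c * y * c = c⁻¹ * ((c * y) * (c * y)) * c by group, h1, mul_one, inv_mul_cancel]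

/-- The involution of `⟨x⟩` centralises the derived subgroup. -/
theorem Normal.commute_top (N : Normal P x z y r) (N' : Normal P z x y r) (hr : 2 ≤ r) (hy2 : y * y = 1)
    (hxo : orderOf x = 2 ^ r) (hcard : Nat.card (P : Subgroup G) = orderOf x * orderOf z)
    {c : (P : Subgroup G)} (hc : ∀ p, p ∈ commutator (P : Subgroup G) ↔ p ∈ zpowers c) {m : ℕ}
    (hco : orderOf c = 2 ^ (m + 1)) : Commute (x ^ 2 ^ (r - 1)) c := by
  have hC : commutator (P : Subgroup G) = zpowers c := Subgroup.ext hc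
  have hzo : orderOf z = 2 ^ (m + 2) := by
    have h := N.card
    rw [hC, Nat.card_zpowers, hco, hcard, hxo] at h
    refine Nat.eq_of_mul_eq_mul_left (Nat.two_pow_pos r) (h.trans ?_)
    rw [← pow_add, ← pow_add]
    congr 1
    omega
  have hrm : r ≤ m + 2 := by
    have h := orderOf_map_dvd (Abelianization.of (G := (P : Subgroup G))) z
    rw [N'.order, hzo] at h
    exact (Nat.pow_dvd_pow_iff_le_right (by norm_num)).1 h
  obtain ⟨σ, hσ⟩ : ∃ σ : ℤ, z * c * z⁻¹ = c ^ σ := by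
    have h1 : z * c * z⁻¹ ∈ zpowers c := (hc _).1
      ((inferInstance : (commutator (P : Subgroup G)).Normal).conj_mem c ((hc c).2 (mem_zpowers c)) z)
    obtain ⟨σ, h⟩ := mem_zpowers_iff.1 h1
    exact ⟨σ, h.symm⟩
  have hit : ∀ n : ℕ, z ^ n * c * (z ^ n)⁻¹ = c ^ σ ^ n := by
    intro n
    induction n with
    | zero => simp
    | succ n ih =>
      rw [pow_succ' z, show z * z ^ n * c * (z * z ^ n)⁻¹ = z * (z ^ n * c * (z ^ n)⁻¹) * z⁻¹ by group,
        ih, ← conj_zpow, hσ, ← zpow_mul, pow_succ' σ]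
  have hodd : (2 : ℤ) ∣ σ - 1 := by
    by_contra h
    have h2 : (2 : ℤ) ∣ σ := by omega
    obtain ⟨q, rfl⟩ := h2
    have h1 : (z * c * z⁻¹) ^ 2 ^ m = 1 := by
      rw [hσ, ← zpow_natCast, ← zpow_mul, ← orderOf_dvd_iff_zpow_eq_one, hco]
      exact ⟨q, by push_cast; ring⟩
    rw [conj_pow, mul_inv_eq_one, mul_eq_left, ← orderOf_dvd_iff_pow_eq_one, hco] at h1
    have := (Nat.pow_dvd_pow_iff_le_right (by norm_num)).1 h1
    omega
  have hzc : z ^ 2 ^ r ∈ zpowers c := by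
    rw [← hc, ← Abelianization.ker_of, MonoidHom.mem_ker, map_pow, ← N'.order, pow_orderOf_eq_one]
  obtain ⟨n, hn⟩ := mem_zpowers_iff.1 hzc
  have hzn : orderOf (c ^ n) = 2 ^ (m + 2 - r) := by
    rw [hn, orderOf_pow, hzo, Nat.gcd_eq_right (pow_dvd_pow 2 hrm), Nat.pow_div hrm two_pos]
  have hdvd : (2 : ℤ) ^ (m + 2 - r) ∣ σ - 1 := by
    have h1 : (c ^ n) ^ (σ - 1) = 1 := by
      have h2 : z * c ^ n * z⁻¹ = c ^ n := by
        rw [hn, ← pow_succ', pow_succ, mul_inv_cancel_right]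
      rw [← conj_zpow, hσ, ← zpow_mul] at h2
      rw [← zpow_mul, mul_sub, mul_one, zpow_sub, mul_comm, h2, mul_inv_cancel]
    have h3 := orderOf_dvd_iff_zpow_eq_one.2 h1
    rw [hzn] at h3
    push_cast at h3
    exact h3
  obtain ⟨l, hl1, hle, hl⟩ : ∃ l, 1 ≤ l ∧ m + 1 ≤ l + (r - 1) ∧ (2 : ℤ) ^ l ∣ σ - 1 := by
    by_cases h : r ≤ m + 1
    · exact ⟨m + 2 - r, by omega, by omega, hdvd⟩
    · exact ⟨1, le_rfl, by omega, by simpa using hodd⟩
  have hfix : Commute (z ^ 2 ^ (r - 1)) c := by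
    refine mul_inv_eq_iff_eq_mul.1 ((hit _).trans ?_)
    have h := (pow_dvd_pow (2 : ℤ) hle).trans (dvd_sq_sub_one hl1 hl (r - 1))
    have h' : ((orderOf c : ℕ) : ℤ) ∣ σ ^ 2 ^ (r - 1) - 1 := by rw [hco]; push_cast; exact h
    rw [orderOf_dvd_iff_zpow_eq_one, zpow_sub, zpow_one, mul_inv_eq_one] at h'
    exact h'
  obtain ⟨a, k, ha, hz⟩ := N.z_eq
  have hY : Abelianization.of y ^ (2 : ℕ) = 1 := by rw [pow_two, ← map_mul, hy2, map_one]
  have heq : Abelianization.of (z ^ 2 ^ (r - 1)) = Abelianization.of (x ^ 2 ^ (r - 1)) := by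
    obtain ⟨b, hb⟩ : ∃ b, a = 2 * b + 1 := ⟨a / 2, by omega⟩
    obtain ⟨s, hs⟩ : ∃ s, 2 ^ (r - 1) = 2 * s := ⟨2 ^ (r - 2), by rw [← pow_succ']; congr 1; omega⟩
    rw [map_pow, map_pow, hz, mul_pow]
    have h1 : (Abelianization.of y ^ k) ^ 2 ^ (r - 1) = 1 := by
      rw [hs, pow_mul, ← zpow_natCast (Abelianization.of y ^ k) 2, ← zpow_mul, mul_comm k, zpow_mul,
        zpow_natCast, hY, one_zpow, one_pow]
    have h2 : Abelianization.of x ^ (((2 ^ r : ℕ) : ℤ) * b) = 1 := by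
      rw [zpow_mul, zpow_natCast, ← N.order, pow_orderOf_eq_one, one_zpow]
    rw [h1, mul_one, hb, ← zpow_natCast, ← zpow_mul,
      show (2 * b + 1) * ((2 ^ (r - 1) : ℕ) : ℤ) = ((2 ^ r : ℕ) : ℤ) * b + ((2 ^ (r - 1) : ℕ) : ℤ) by
        rw [show r = r - 1 + 1 by omega, Nat.add_sub_cancel, pow_succ]; push_cast; ring,
      zpow_add, h2, one_mul, zpow_natCast]
  obtain ⟨j, hj⟩ := mem_zpowers_iff.1 ((hc _).1 (mem_commutator_of_eq heq.symm))
  rw [show x ^ 2 ^ (r - 1) = c ^ j * z ^ 2 ^ (r - 1) by rw [hj, inv_mul_cancel_right]]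
  exact ((Commute.refl c).zpow_left j).mul_left hfix

end Cfsg.Agent.CyclicTimesZ
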