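import Cfsg.Agent.Lib.CyclicTimesZ.Generator

/-!
# A simple normal subgroup of a group with bicyclic Sylow 2-subgroup has dihedral Sylow 2-subgroups
-/

set_option autoImplicit false
set_option linter.unusedSectionVars false

namespace Cfsg.Agent.CyclicTimesZ

open Subgroup
open scoped commutatorElement

universe u

variable {G : Type u} [Group G] [Finite G] {P : Sylow 2 G} {L : Subgroup G} {x z y : (P : Subgroup G)}
  {r : ℕ}

/-- A subgroup `H` of index at most two pulled back along an injection. -/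
theorem exists_metacyclic_index {A B : Type*} [Group A] [Group B] (f : A →* B) (hf : Function.Injective f)
    {H : Subgroup B} (hHm : Cfsg.IsMetacyclic ↥H) (hH : ∀ a b, a ∉ H → b ∉ H → a * b ∈ H) :
    ∃ K : Subgroup A, Cfsg.IsMetacyclic ↥K ∧ ∀ a b, a ∉ K → b ∉ K → a * b ∈ K := by
  refine ⟨H.comap f, ?_, fun a b ha hb => by rw [mem_comap, map_mul]; exact hH _ _ ha hb⟩
  exact Bicyclic2.isMetacyclic_of_surjective (Bicyclic2.isMetacyclic_of_le hHm (map_comap_le f H))
    ((H.comap f).equivMapOfInjective f hf).symm.toMonoidHom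
    ((H.comap f).equivMapOfInjective f hf).symm.surjective

theorem Setup.card_eq (D : Setup P L x z) :
    Nat.card (P : Subgroup G) = orderOf x * orderOf z := by
  rw [← Nat.card_zpowers x, ← Nat.card_zpowers z, ← Nat.card_prod]
  refine (Nat.card_congr (Equiv.ofBijective
    (fun v : zpowers x × zpowers z => (v.1 : (P : Subgroup G)) * v.2) ⟨?_, ?_⟩)).symm
  · rintro ⟨⟨_, i, rfl⟩, ⟨_, j, rfl⟩⟩ ⟨⟨_, i', rfl⟩, ⟨_, j', rfl⟩⟩ h
    simp only at h
    have h1 : x ^ (i - i') = z ^ (j' - j) := by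
      rw [sub_eq_neg_add, zpow_add, zpow_neg, zpow_sub]
      calc (x ^ i')⁻¹ * x ^ i = (x ^ i')⁻¹ * (x ^ i * z ^ j) * (z ^ j)⁻¹ := by group
        _ = (x ^ i')⁻¹ * (x ^ i' * z ^ j') * (z ^ j)⁻¹ := by rw [h]
        _ = z ^ j' * (z ^ j)⁻¹ := by group
    have hx : x ^ (i - i') = 1 := D.disj _ _ h1
    have hii : x ^ i = x ^ i' := by rwa [zpow_sub, mul_inv_eq_one] at hx
    rw [hii, mul_right_inj] at h
    exact Prod.ext (Subtype.ext hii) (Subtype.ext h)
  · intro p
    obtain ⟨i, j, rfl⟩ := D.prod p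
    exact ⟨(⟨x ^ i, i, rfl⟩, ⟨z ^ j, j, rfl⟩), rfl⟩

/-- Few involutions. -/
theorem Setup.four (D : Setup P L x z) {SL : Sylow 2 L}
    (hSL : ∀ w : L, w ∈ (SL : Subgroup L) ↔ (w : G) ∈ (P : Subgroup G)) {u v : L}
    (hinv : ∀ w ∈ (SL : Subgroup L), w * w = 1 → w = 1 ∨ w = u ∨ w = v ∨ w = u * v) :
    ∃ n, 2 ≤ n ∧ Nonempty ((SL : Subgroup L) ≃* DihedralGroup n) := by
  haveI := D.simple
  obtain ⟨H, hHm, hH⟩ := D.facts.index
  let f : (SL : Subgroup L) →* (P : Subgroup G) :=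
    (L.subtype.comp (SL : Subgroup L).subtype).codRestrict _ fun w => (hSL w).1 w.2
  obtain ⟨K, hKm, hK⟩ := exists_metacyclic_index f (fun a b h => Subtype.ext (Subtype.ext
    (congrArg Subtype.val h :))) hHm hH
  exact ⟨2, le_rfl, four_of_few_involutions D.nonab SL hKm hK hinv⟩

/-- All involutions of `P ∩ L` are squares modulo the derived subgroup. -/
theorem Setup.dihedral_of_squares (D : Setup P L x z) {SL : Sylow 2 L}
    (hSL : ∀ w : L, w ∈ (SL : Subgroup L) ↔ (w : G) ∈ (P : Subgroup G))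
    (hsq : ∀ y : (P : Subgroup G), (y : G) ∈ L → y * y = 1 →
      ∃ q : (P : Subgroup G), Abelianization.of y = Abelianization.of q * Abelianization.of q) :
    ∃ n, 2 ≤ n ∧ Nonempty ((SL : Subgroup L) ≃* DihedralGroup n) := by
  haveI : Fact (Nat.Prime 2) := ⟨Nat.prime_two⟩
  have hΦ : ∀ w : L, ∀ hw : w ∈ (SL : Subgroup L), w * w = 1 →
      (⟨(w : G), (hSL w).1 hw⟩ : (P : Subgroup G)) ∈ _root_.frattini (P : Subgroup G) := by
    intro w hw hw2
    obtain ⟨q, hq⟩ := hsq ⟨(w : G), (hSL w).1 hw⟩ w.2 (Subtype.ext (congrArg Subtype.val hw2 :))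
    rw [← map_mul] at hq
    have h1 := mul_mem (PGroup.commutator_le_frattini P.2 (mem_commutator_of_eq hq))
      (Bicyclic2.sq_mem_frattini P.2 q)
    rwa [inv_mul_cancel_right] at h1
  by_cases h2 : ∃ u v : L, u ∈ (SL : Subgroup L) ∧ v ∈ (SL : Subgroup L) ∧ u * u = 1 ∧ v * v = 1 ∧
      u ≠ 1 ∧ v ≠ 1 ∧ u ≠ v
  · obtain ⟨u, v, hu, hv, hu2, hv2, hu1, hv1, huv⟩ := h2
    refine D.four hSL (u := u) (v := v) fun w hw hw2 => ?_
    have h := D.facts.frattini _ (hΦ u hu hu2) _ (hΦ v hv hv2) _ (hΦ w hw hw2)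
      (Subtype.ext (congrArg Subtype.val hu2 :)) (Subtype.ext (congrArg Subtype.val hv2 :))
      (Subtype.ext (congrArg Subtype.val hw2 :))
      (fun e => hu1 (Subtype.ext (congrArg Subtype.val e :)))
      (fun e => hv1 (Subtype.ext (congrArg Subtype.val e :)))
      (fun e => huv (Subtype.ext (congrArg Subtype.val e :)))
    rcases h with e | e | e | e
    · exact Or.inl (Subtype.ext (congrArg Subtype.val e :))
    · exact Or.inr (Or.inl (Subtype.ext (congrArg Subtype.val e :)))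
    · exact Or.inr (Or.inr (Or.inl (Subtype.ext (congrArg Subtype.val e :))))
    · exact Or.inr (Or.inr (Or.inr (Subtype.ext (congrArg Subtype.val e :))))
  · push Not at h2
    by_cases h1 : ∃ u : L, u ∈ (SL : Subgroup L) ∧ u * u = 1 ∧ u ≠ 1
    · obtain ⟨u, hu, hu2, hu1⟩ := h1
      refine D.four hSL (u := u) (v := 1) fun w hw hw2 => ?_
      by_cases hw1 : w = 1
      · exact Or.inl hw1
      · exact Or.inr (Or.inl (h2 u w hu hw hu2 hw2 hu1 hw1).symm)
    · push Not at h1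
      exact D.four hSL (u := 1) (v := 1) fun w hw hw2 => Or.inl (h1 w hw hw2)

/-- The case of an involution of `L` which is no square modulo the derived subgroup, for a factor `x` meeting the
derived subgroup trivially with involution not conjugate to the central one. -/
theorem Setup.dihedral_of_nonsquare (D : Setup P L x z) {SL : Sylow 2 L}
    (hSL : ∀ w : L, w ∈ (SL : Subgroup L) ↔ (w : G) ∈ (P : Subgroup G))
    (N : Normal P x z y r) (N' : Normal P z x y r) (hyL : (y : G) ∈ L) (hy2 : y * y = 1)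
    {c : (P : Subgroup G)} (hc : ∀ p, p ∈ commutator (P : Subgroup G) ↔ p ∈ zpowers c)
    {m : ℕ} (hco : orderOf c = 2 ^ (m + 1)) (hinv : y * c * y⁻¹ = c⁻¹)
    (hxC : ∀ i : ℤ, x ^ i ∈ commutator (P : Subgroup G) → x ^ i = 1)
    (hne : ¬ IsConj ((top c m : (P : Subgroup G)) : G) ((x ^ 2 ^ (r - 1) : (P : Subgroup G)) : G)) :
    ∃ n, 2 ≤ n ∧ Nonempty ((SL : Subgroup L) ≃* DihedralGroup n) := by
  haveI : Fact (Nat.Prime 2) := ⟨Nat.prime_two⟩
  haveI := D.simple
  haveI := D.normal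
  have hxo : orderOf x = 2 ^ r := by
    refine Nat.dvd_antisymm (orderOf_dvd_of_pow_eq_one ?_) (N.order ▸ orderOf_map_dvd _ x)
    have h1 : x ^ ((2 ^ r : ℕ) : ℤ) ∈ commutator (P : Subgroup G) := by
      rw [← Abelianization.ker_of, MonoidHom.mem_ker, map_zpow, zpow_natCast, ← N.order, pow_orderOf_eq_one]
    have h2 := hxC _ h1
    rwa [zpow_natCast] at h2
  have hcC : c ∈ commutator (P : Subgroup G) := (hc c).2 (mem_zpowers c)
  have hcL : ∀ a : ℤ, ((c ^ a : (P : Subgroup G)) : G) ∈ L := fun a =>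
    D.commutator_le (zpow_mem hcC a)
  -- powers of `x` in `L`
  set π := QuotientGroup.mk' (L.subgroupOf (P : Subgroup G)) with hπ
  obtain ⟨k₀, hk₀⟩ : ∃ k, orderOf (π x) = 2 ^ k := by
    obtain ⟨n, hn⟩ := P.2 x
    obtain ⟨k, -, hk⟩ := (Nat.dvd_prime_pow Nat.prime_two).1
      (orderOf_dvd_of_pow_eq_one (x := π x) (n := 2 ^ n) (by rw [← map_pow, hn, map_one]))
    exact ⟨k, hk⟩
  have hxL : ∀ a : ℤ, ((x ^ a : (P : Subgroup G)) : G) ∈ L ↔ (2 : ℤ) ^ k₀ ∣ a := fun a => by
    rw [← mem_subgroupOf, ← QuotientGroup.eq_one_iff, QuotientGroup.mk_zpow,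
      ← orderOf_dvd_iff_zpow_eq_one]
    rw [show (orderOf ((x : (P : Subgroup G)) : (P : Subgroup G) ⧸ L.subgroupOf (P : Subgroup G)) : ℤ) =
      ((2 ^ k₀ : ℕ) : ℤ) from congrArg Nat.cast hk₀]
    push_cast
    rfl
  have hk1 : 1 ≤ k₀ := Nat.one_le_iff_ne_zero.2 fun h0 => D.x_out (by
    have h1 := (hxL 1).2 (by rw [h0, pow_zero])
    rwa [zpow_one] at h1)
  have hkr : k₀ ≤ r := by
    have h1 := orderOf_map_dvd π x
    rw [hk₀, hxo] at h1
    exact (Nat.pow_dvd_pow_iff_le_right (by norm_num)).1 h1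
  -- the elements of `P` in `L`
  have hform : ∀ w : L, w ∈ (SL : Subgroup L) → ∃ (p : (P : Subgroup G)) (a q e : ℤ),
      (p : G) = w ∧ p = c ^ a * x ^ ((2 : ℤ) ^ k₀ * q) * y ^ e := by
    intro w hw
    set p : (P : Subgroup G) := ⟨(w : G), (hSL w).1 hw⟩
    obtain ⟨b, e, hb⟩ := N.form p
    rw [← map_zpow, ← map_zpow, ← map_mul] at hb
    obtain ⟨a, ha⟩ := mem_zpowers_iff.1 ((hc _).1 (mem_commutator_of_eq hb))
    have hpb : p = c ^ a * x ^ b * y ^ e := by rw [mul_assoc, ha, inv_mul_cancel_right]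
    have hxb : ((x ^ b : (P : Subgroup G)) : G) ∈ L := by
      have h1 : ((x ^ b * y ^ e : (P : Subgroup G)) : G) ∈ L := (D.mem_iff_of_mk_eq hb).1 w.2
      rw [coe_mul] at h1
      have h2 : ((y ^ e : (P : Subgroup G)) : G) ∈ L := by rw [coe_zpow]; exact zpow_mem hyL e
      simpa using mul_mem h1 (inv_mem h2)
    obtain ⟨q, rfl⟩ := (hxL b).1 hxb
    exact ⟨p, a, q, e, rfl, hpb⟩
  -- elements of `L`
  have hmk : ∀ p : (P : Subgroup G), ∀ h : (p : G) ∈ L, (⟨(p : G), h⟩ : L) ∈ (SL : Subgroup L) :=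
    fun p h => (hSL _).2 p.2
  have hcL1 : (c : G) ∈ L := by simpa using hcL 1
  set cL : L := ⟨(c : G), hcL1⟩ with hcLdef
  set yL : L := ⟨(y : G), hyL⟩ with hyLdef
  have hcLo : orderOf cL = 2 ^ (m + 1) := by
    rw [← Subgroup.orderOf_coe]; show orderOf (c : G) = _; rw [Subgroup.orderOf_coe, hco]
  have hy2L : yL * yL = 1 := Subtype.ext (congrArg Subtype.val hy2 :)
  have hinvL : yL * cL * yL⁻¹ = cL⁻¹ := Subtype.ext (congrArg Subtype.val hinv :)
  have hyout : ∀ a : ℤ, Abelianization.of y ≠ Abelianization.of x ^ a := N.indep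
  rcases Nat.lt_or_ge k₀ r with hlt | hge
  swap
  · -- `P ∩ L = ⟨c, y⟩`
    have hcov : ∀ w ∈ (SL : Subgroup L), ∃ a : ℤ, w = cL ^ a ∨ w = cL ^ a * yL := by
      intro w hw
      obtain ⟨p, a, q, e, hp, hpe⟩ := hform w hw
      obtain rfl : k₀ = r := le_antisymm hkr hge
      have hxz : x ^ ((2 : ℤ) ^ k₀ * q) = 1 := by
        rw [zpow_mul, show (2 : ℤ) ^ k₀ = ((2 ^ k₀ : ℕ) : ℤ) by push_cast; rfl, zpow_natCast, ← hxo,
          pow_orderOf_eq_one, one_zpow]
      rw [hxz, mul_one] at hpe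
      refine ⟨a, ?_⟩
      obtain ⟨e', rfl | rfl⟩ := Int.even_or_odd' e
      · rw [zpow_mul, zpow_two, hy2, one_zpow, mul_one] at hpe
        exact Or.inl (Subtype.ext (by rw [← hp, hpe]; rfl))
      · rw [zpow_add, zpow_mul, zpow_two, hy2, one_zpow, one_mul, zpow_one] at hpe
        exact Or.inr (Subtype.ext (by rw [← hp, hpe]; rfl))
    rcases Nat.eq_zero_or_pos m with rfl | hm
    · refine D.four hSL (u := cL) (v := yL) fun w hw _ => ?_
      have hc2 : cL ^ (2 : ℤ) = 1 := by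
        rw [show (2 : ℤ) = ((2 ^ (0 + 1) : ℕ) : ℤ) by norm_num, zpow_natCast, ← hcLo, pow_orderOf_eq_one]
      obtain ⟨a, h | h⟩ := hcov w hw <;> obtain ⟨a', rfl | rfl⟩ := Int.even_or_odd' a
      · exact Or.inl (by rw [h, zpow_mul, hc2, one_zpow])
      · exact Or.inr (Or.inl (by rw [h, zpow_add, zpow_mul, hc2, one_zpow, one_mul, zpow_one]))
      · exact Or.inr (Or.inr (Or.inl (by rw [h, zpow_mul, hc2, one_zpow, one_mul])))
      · exact Or.inr (Or.inr (Or.inr (by rw [h, zpow_add, zpow_mul, hc2, one_zpow, one_mul, zpow_one])))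
    · exact dihedral_of_inverted (k := m + 1) (by omega) hcLo hy2L hinvL (hmk c hcL1) (hmk y hyL) hcov
  rcases Nat.lt_or_ge (k₀ + 1) r with hlt2 | hge2
  · -- transfer by `x ^ 2^k₀`
    exfalso
    obtain ⟨h, hh⟩ : ∃ h, r = k₀ + (h + 2) := ⟨r - k₀ - 2, by omega⟩
    have hxkL : ((x ^ 2 ^ k₀ : (P : Subgroup G)) : G) ∈ L := by
      have h1 := (hxL ((2 : ℤ) ^ k₀)).2 dvd_rfl
      rwa [show (2 : ℤ) ^ k₀ = ((2 ^ k₀ : ℕ) : ℤ) by push_cast; rfl, zpow_natCast] at h1
    set x' : L := ⟨((x ^ 2 ^ k₀ : (P : Subgroup G)) : G), hxkL⟩ with hx'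
    have hx'o : orderOf x' = 2 ^ (h + 1 + 1) := by
      rw [← Subgroup.orderOf_coe]
      show orderOf ((x ^ 2 ^ k₀ : (P : Subgroup G)) : G) = _
      rw [Subgroup.orderOf_coe, orderOf_pow, hxo, Nat.gcd_eq_right (pow_dvd_pow 2 hkr),
        Nat.pow_div hkr two_pos]
      congr 1
      omega
    set K : Subgroup (P : Subgroup G) :=
      ((powMonoidHom (2 ^ (h + 1))).comp Abelianization.of).ker with hK
    have hKmem : ∀ p, p ∈ K ↔ Abelianization.of p ^ 2 ^ (h + 1) = 1 := fun p => Iff.rfl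
    set Q : Subgroup L := ((K.map (P : Subgroup G).subtype).comap L.subtype) with hQ
    have hQmem : ∀ w : L, ∀ hw : (w : G) ∈ (P : Subgroup G), w ∈ Q ↔ (⟨(w : G), hw⟩ : (P : Subgroup G)) ∈ K := by
      intro w hw
      rw [hQ, mem_comap]
      constructor
      · rintro ⟨p, hp, hpw⟩
        have e : p = ⟨(w : G), hw⟩ := Subtype.ext hpw
        rwa [← e]
      · intro hw'
        exact ⟨_, hw', rfl⟩
    have hQS : Q ≤ (SL : Subgroup L) := by
      rintro w ⟨p, -, hpw⟩
      refine (hSL w).2 ?_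
      have hpw' : (p : G) = (w : G) := hpw
      rw [← hpw']
      exact p.2
    have hXtop : Abelianization.of x ^ 2 ^ (r - 1) ≠ 1 := by
      intro e
      have h1 := Nat.le_of_dvd (Nat.two_pow_pos _) (orderOf_dvd_of_pow_eq_one e)
      rw [N.order] at h1
      exact absurd h1 (not_le.2 (Nat.pow_lt_pow_right (by norm_num) (by omega)))
    have hpow : ∀ a q e : ℤ, Abelianization.of (c ^ a * x ^ ((2 : ℤ) ^ k₀ * q) * y ^ e) ^ 2 ^ (h + 1) =
        (Abelianization.of x ^ 2 ^ (r - 1)) ^ q := by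
      intro a q e
      rw [map_mul, map_mul, map_zpow, map_zpow, map_zpow, of_eq_one_of_mem hcC, one_zpow, one_mul, mul_pow]
      have h1 : (Abelianization.of y ^ e) ^ 2 ^ (h + 1) = 1 := by
        rw [← zpow_natCast, ← zpow_mul, mul_comm, zpow_mul, zpow_natCast, pow_succ', pow_mul, pow_two,
          ← map_mul, hy2, map_one, one_pow, one_zpow]
      rw [h1, mul_one, ← zpow_natCast, ← zpow_mul, ← zpow_natCast (Abelianization.of x) (2 ^ (r - 1)),
        ← zpow_mul]
      congr 1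
      rw [show r - 1 = k₀ + (h + 1) by omega]
      push_cast
      ring
    have hx'Q : x' ∉ Q := by
      rw [hQmem x' (x ^ 2 ^ k₀).2, hKmem]
      have h1 := hpow 0 1 0
      rw [zpow_zero, zpow_zero, one_mul, mul_one, mul_one, zpow_one,
        show (2 : ℤ) ^ k₀ = ((2 ^ k₀ : ℕ) : ℤ) by push_cast; rfl, zpow_natCast] at h1
      rw [show (⟨(x' : G), (x ^ 2 ^ k₀).2⟩ : (P : Subgroup G)) = x ^ 2 ^ k₀ from rfl, h1]
      exact hXtop
    have hQi : Q.relIndex (SL : Subgroup L) = 2 := by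
      show (Q.subgroupOf (SL : Subgroup L)).index = 2
      refine index_eq_two_iff.2 ⟨⟨x', hmk _ hxkL⟩, fun b => ?_⟩
      simp only [mem_subgroupOf, coe_mul]
      obtain ⟨p, a, q, e, hp, hpe⟩ := hform b b.2
      by_cases hb : (b : L) ∈ Q
      · exact Or.inr ⟨hb, fun hh' => hx'Q ((mul_mem_cancel_left hb).1 hh')⟩
      · refine Or.inl ⟨?_, hb⟩
        rw [hQmem _ ((hSL _).1 b.2), hKmem] at hb
        rw [show (⟨((b : L) : G), (hSL _).1 b.2⟩ : (P : Subgroup G)) = p from Subtype.ext hp.symm, hpe,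
          hpow] at hb
        obtain ⟨q', rfl | rfl⟩ := Int.even_or_odd' q
        · exfalso
          apply hb
          rw [zpow_mul, zpow_two, ← pow_add, ← two_mul, ← pow_succ',
            show r - 1 + 1 = r by omega, ← N.order, pow_orderOf_eq_one, one_zpow]
        · have hm' : ((b : L) : G) * (x' : G) ∈ (P : Subgroup G) :=
            mul_mem ((hSL _).1 b.2) (x ^ 2 ^ k₀).2
          rw [hQmem _ hm', hKmem,
            show (⟨(((b : L) * x' : L) : G), hm'⟩ : (P : Subgroup G)) = p * x ^ 2 ^ k₀ from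
              Subtype.ext (by simp [hp, x'])]
          have h1 := hpow 0 1 0
          rw [zpow_zero, zpow_zero, one_mul, mul_one, mul_one, zpow_one,
            show (2 : ℤ) ^ k₀ = ((2 ^ k₀ : ℕ) : ℤ) by push_cast; rfl, zpow_natCast] at h1
          rw [map_mul, mul_pow, hpe, hpow, h1, ← zpow_add_one, show 2 * q' + 1 + 1 = 2 * (q' + 1) by ring,
            zpow_mul, zpow_two, ← pow_add, ← two_mul, ← pow_succ', show r - 1 + 1 = r by omega, ← N.order,
            pow_orderOf_eq_one, one_zpow]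
    refine false_of_top_power D.nonab SL Q hQS hQi (hmk _ hxkL) hx'Q hx'o (u := top cL m) (h := h + 1)
      (fun w hw hwo => ?_) (fun w hw hwp => ?_) (fun hcj => hne ?_)
    · have hwP := (hSL w).1 (hQS hw)
      have h1 : (⟨(w : G), hwP⟩ : (P : Subgroup G)) ^ 2 ^ (h + 1) ∈ zpowers c := by
        rw [← hc, ← Abelianization.ker_of, MonoidHom.mem_ker, map_pow]
        exact (hQmem w hwP).1 hw
      obtain ⟨a, ha⟩ := mem_zpowers_iff.1 h1
      have hw2 := top_eq_one_of_lt hwo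
      have hca : cL ^ a = top w (h + 1) := Subtype.ext (congrArg Subtype.val ha :)
      rcases eq_top_of_sq hcLo (a := a) (by rw [hca]; exact hw2.1) with e | e
      · exact absurd (hca.symm.trans e) hw2.2
      · exact hca.symm.trans e
    · rw [hQmem w ((hSL w).1 hw), hKmem, ← map_pow]
      rw [show (⟨(w : G), (hSL w).1 hw⟩ : (P : Subgroup G)) ^ 2 ^ (h + 1) = 1 from
        Subtype.ext (congrArg Subtype.val hwp :), map_one]
    · have h1 := L.subtype.map_isConj hcj
      have e1 : L.subtype (top cL m) = ((top c m : (P : Subgroup G)) : G) := rfl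
      have e2 : L.subtype (top x' (h + 1)) = ((x ^ 2 ^ (r - 1) : (P : Subgroup G)) : G) := by
        show (((x ^ 2 ^ k₀ : (P : Subgroup G)) : G)) ^ 2 ^ (h + 1) = _
        rw [← coe_pow, ← pow_mul, ← pow_add, show k₀ + (h + 1) = r - 1 by omega]
      rwa [e1, e2] at h1
  -- `P ∩ L = ⟨c, y, ι⟩`
  obtain rfl : r = k₀ + 1 := by omega
  rw [show k₀ + 1 - 1 = k₀ from rfl] at hne
  have hιL : ((x ^ 2 ^ k₀ : (P : Subgroup G)) : G) ∈ L := by
    have h1 := (hxL ((2 : ℤ) ^ k₀)).2 dvd_rfl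
    rwa [show (2 : ℤ) ^ k₀ = ((2 ^ k₀ : ℕ) : ℤ) by push_cast; rfl, zpow_natCast] at h1
  set ι : (P : Subgroup G) := x ^ 2 ^ k₀ with hιdef
  set ιL : L := ⟨(ι : G), hιL⟩ with hιLdef
  have hιo : ι * ι = 1 := by
    rw [hιdef, ← pow_add, ← two_mul, ← pow_succ', ← hxo, pow_orderOf_eq_one]
  have hιX : Abelianization.of ι ≠ 1 := by
    rw [hιdef, map_pow]
    intro e
    have h1 := Nat.le_of_dvd (Nat.two_pow_pos _) (orderOf_dvd_of_pow_eq_one e)
    rw [N.order] at h1
    exact absurd h1 (not_le.2 (Nat.pow_lt_pow_right (by norm_num) (by omega)))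
  have hιc : Commute ι c := N.commute_top N' (by omega) hy2 hxo D.card_eq hc hco
  have hcof : Abelianization.of c = 1 := of_eq_one_of_mem hcC
  have F : Frame (SL : Subgroup L) cL yL ιL m :=
    { c_mem := hmk c hcL1
      y_mem := hmk y hyL
      ι_mem := hmk ι hιL
      c_order := hcLo
      y_sq := hy2L
      ι_sq := Subtype.ext (congrArg Subtype.val hιo :)
      inv := hinvL
      comm := Subtype.ext (congrArg Subtype.val hιc.eq :)
      ι_out := fun a e => hιX (by
        have e' : ι = c ^ a := Subtype.ext (by simpa using congrArg Subtype.val e)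
        rw [e', map_zpow, hcof, one_zpow])
      y_out := fun a => ⟨fun e => hyout 0 (by
          have e' : y = c ^ a := Subtype.ext (by simpa using congrArg Subtype.val e)
          rw [e', map_zpow, hcof, one_zpow, zpow_zero]),
        fun e => hyout ((2 ^ k₀ : ℕ) : ℤ) (by
          have e' : y = c ^ a * ι := Subtype.ext (by simpa using congrArg Subtype.val e)
          rw [e', map_mul, map_zpow, hcof, one_zpow, one_mul, zpow_natCast, hιdef, map_pow])⟩
      cover := fun w hw => by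
        obtain ⟨p, a, q, e, hp, hpe⟩ := hform w hw
        rw [zpow_mul, show (2 : ℤ) ^ k₀ = ((2 ^ k₀ : ℕ) : ℤ) by push_cast; rfl, zpow_natCast, ← hιdef] at hpe
        obtain ⟨q', rfl | rfl⟩ := Int.even_or_odd' q <;> obtain ⟨e', rfl | rfl⟩ := Int.even_or_odd' e
        · refine ⟨a, Or.inl (Subtype.ext ?_)⟩
          rw [← hp, hpe, zpow_mul, zpow_two, hιo, one_zpow, mul_one, zpow_mul, zpow_two, hy2, one_zpow,
            mul_one]
          simp [cL]
        · refine ⟨a, Or.inr (Or.inl (Subtype.ext ?_))⟩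
          rw [← hp, hpe, zpow_mul, zpow_two, hιo, one_zpow, mul_one, zpow_add, zpow_mul, zpow_two, hy2,
            one_zpow, one_mul, zpow_one]
          simp [cL, yL]
        · refine ⟨a, Or.inr (Or.inr (Or.inl (Subtype.ext ?_)))⟩
          rw [← hp, hpe, zpow_add, zpow_mul, zpow_two, hιo, one_zpow, one_mul, zpow_one, zpow_mul, zpow_two,
            hy2, one_zpow, mul_one]
          simp [cL, ιL]
        · have hcom : ∃ b : ℤ, ι * y = c ^ b * (y * ι) := by
            obtain ⟨b, hb⟩ := mem_zpowers_iff.1 ((hc _).1 (mem_commutator_of_eq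
              (p := ι * y) (q := y * ι) (by rw [map_mul, map_mul, mul_comm])))
            exact ⟨b, by rw [hb, inv_mul_cancel_right]⟩
          obtain ⟨b, hb⟩ := hcom
          refine ⟨a + b, Or.inr (Or.inr (Or.inr (Subtype.ext ?_)))⟩
          rw [← hp, hpe, zpow_add ι (2 * q'), zpow_mul, zpow_two, hιo, one_zpow, one_mul, zpow_one,
            zpow_add y, zpow_mul, zpow_two, hy2, one_zpow, one_mul, zpow_one, mul_assoc (c ^ a), hb,
            ← mul_assoc, ← zpow_add]
          simp [cL, yL, ιL] }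
  have htop : L.subtype (top cL m) = ((top c m : (P : Subgroup G)) : G) := rfl
  have hneL : ¬ IsConj (top cL m) ιL := fun e => hne (by
    have h1 := L.subtype.map_isConj e
    rwa [htop] at h1)
  obtain ⟨b, hb⟩ := mem_zpowers_iff.1 ((hc _).1 (mem_commutator_of_eq
    (p := y * ι * y⁻¹) (q := ι) (by rw [map_mul, map_mul, map_inv, mul_comm (Abelianization.of y),
      mul_inv_cancel_right])))
  have hyι : y * ι * y⁻¹ = c ^ b * ι := by rw [hb, inv_mul_cancel_right]
  have hcb : cL ^ b * cL ^ b = 1 := by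
    have h1 : c ^ b * c ^ b = 1 := by
      have h2 := conj_sq y hιo
      rwa [hyι, (hιc.zpow_right b).mul_mul_mul_comm, hιo, mul_one] at h2
    exact Subtype.ext (by simpa using congrArg Subtype.val h1)
  have hyιL : yL * ιL * yL⁻¹ = cL ^ b * ιL := Subtype.ext (by simpa using congrArg Subtype.val hyι)
  rcases eq_top_of_sq hcLo hcb with e | e
  · rw [e, one_mul, mul_inv_eq_iff_eq_mul] at hyιL
    exact (false_of_central D.nonab SL F hyιL hneL).elim
  · rw [e] at hyιL
    rcases Nat.eq_zero_or_pos m with rfl | hm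
    swap
    · exact (false_of_twisted D.nonab SL F hm hyιL).elim
    -- dihedral of order eight
    have hu : top cL 0 = cL := by rw [top, pow_zero, pow_one]
    rw [hu] at hyιL
    set d : L := yL * ιL with hd
    have hy_inv : yL⁻¹ = yL := inv_eq_of_mul_eq_one_right hy2L
    have hι_inv : ιL⁻¹ = ιL := inv_eq_of_mul_eq_one_right F.ι_sq
    have hd2 : d * d = cL := by
      rw [hd, show yL * ιL * (yL * ιL) = (yL * ιL * yL) * ιL by group]
      conv_lhs => arg 1; arg 2; rw [← hy_inv]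
      rw [hyιL, mul_assoc, F.ι_sq, mul_one]
    have hdo : orderOf d = 2 ^ 2 := by
      refine orderOf_eq_prime_pow (n := 1) ?_ ?_
      · rw [pow_one, pow_two, hd2]
        exact fun e1 => by rw [e1, orderOf_one] at hcLo; norm_num at hcLo
      · have h4 : (2 : ℕ) ^ (1 + 1) = 2 * 2 := by norm_num
        rw [h4, pow_mul, pow_two d, hd2]
        have := pow_orderOf_eq_one cL
        rwa [hcLo] at this
    refine dihedral_of_inverted (x := d) (t := yL) le_rfl hdo hy2L ?_ (mul_mem F.y_mem F.ι_mem) F.y_mem ?_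
    · rw [hd, mul_inv_rev, hι_inv, hy_inv, ← mul_assoc, hy2L, one_mul]
    · intro w hw
      have hca : ∀ a : ℤ, cL ^ a = d ^ (2 * a) := fun a => by rw [zpow_mul, zpow_two, hd2]
      have hιd : ιL = d ^ (-1 : ℤ) * yL := by
        rw [zpow_neg_one, hd, mul_inv_rev, hι_inv, hy_inv, mul_assoc, hy2L, mul_one]
      obtain ⟨a, h | h | h | h⟩ := F.cover w hw
      · exact ⟨2 * a, Or.inl (by rw [h, hca])⟩
      · exact ⟨2 * a, Or.inr (by rw [h, hca])⟩
      · exact ⟨2 * a + -1, Or.inr (by rw [h, hca, hιd, zpow_add, mul_assoc])⟩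
      · exact ⟨2 * a + 1, Or.inl (by rw [h, hca, ← hd, zpow_add_one])⟩

/-- **The Sylow 2-subgroups of `L` are dihedral.** -/
theorem Setup.sylow_dihedral (D : Setup P L x z) : GW.DihedralTwo L := by
  haveI : Fact (Nat.Prime 2) := ⟨Nat.prime_two⟩
  obtain ⟨SL, hSL⟩ := D.exists_sylow
  suffices h : ∃ n, 2 ≤ n ∧ Nonempty ((SL : Subgroup L) ≃* DihedralGroup n) by
    intro S
    obtain ⟨n, hn, ⟨e⟩⟩ := h
    exact ⟨n, hn, ⟨(S.equiv SL).trans e⟩⟩
  by_cases hsq : ∀ y : (P : Subgroup G), (y : G) ∈ L → y * y = 1 →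
      ∃ q : (P : Subgroup G), Abelianization.of y = Abelianization.of q * Abelianization.of q
  · exact D.dihedral_of_squares hSL hsq
  push Not at hsq
  obtain ⟨y, hyL, hy2, hy⟩ := hsq
  obtain ⟨r, N, N'⟩ := D.exists_normal hyL hy2 hy
  by_cases hC : commutator (P : Subgroup G) = ⊥
  · -- `P` is a four group
    have hxo : orderOf x = 2 ^ r := by
      rw [← N.order]
      refine (orderOf_injective Abelianization.of ?_ x).symm
      rw [← MonoidHom.ker_eq_bot_iff, Abelianization.ker_of, hC]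
    have hzo : orderOf z = 2 ^ r := by
      rw [← N'.order]
      refine (orderOf_injective Abelianization.of ?_ z).symm
      rw [← MonoidHom.ker_eq_bot_iff, Abelianization.ker_of, hC]
    have hcard := N.card
    rw [D.card_eq, hxo, hzo, hC, Subgroup.card_bot, one_mul, ← pow_add] at hcard
    have hr : r = 1 := by
      have := Nat.pow_right_injective le_rfl hcard
      omega
    subst hr
    set yL : L := ⟨(y : G), hyL⟩
    refine D.four hSL (u := yL) (v := 1) fun w hw _ => ?_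
    obtain ⟨a, e, he⟩ := N.form ⟨(w : G), (hSL w).1 hw⟩
    have he' : (⟨(w : G), (hSL w).1 hw⟩ : (P : Subgroup G)) = x ^ a * y ^ e := by
      have := mem_commutator_of_eq (q := x ^ a * y ^ e) (he.trans (by rw [map_mul, map_zpow, map_zpow]))
      rwa [hC, mem_bot, mul_inv_eq_one] at this
    obtain ⟨a', rfl | rfl⟩ := Int.even_or_odd' a
    · have hx2 : x ^ (2 * a') = 1 := by
        rw [zpow_mul, show (2 : ℤ) = ((2 ^ 1 : ℕ) : ℤ) by norm_num, zpow_natCast, ← hxo,
          pow_orderOf_eq_one, one_zpow]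
      rw [hx2, one_mul] at he'
      obtain ⟨e', rfl | rfl⟩ := Int.even_or_odd' e
      · rw [zpow_mul, zpow_two, hy2, one_zpow] at he'
        exact Or.inl (Subtype.ext (congrArg Subtype.val he' :))
      · rw [zpow_add, zpow_mul, zpow_two, hy2, one_zpow, one_mul, zpow_one] at he'
        exact Or.inr (Or.inl (Subtype.ext (congrArg Subtype.val he' :)))
    · exfalso
      apply D.x_out
      have h1 : x ^ (2 * a' + 1) = x := by
        rw [zpow_add, zpow_mul, show (2 : ℤ) = ((2 ^ 1 : ℕ) : ℤ) by norm_num, zpow_natCast, ← hxo,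
          pow_orderOf_eq_one, one_zpow, one_mul, zpow_one]
      rw [h1] at he'
      have h2 : (x : G) = (w : G) * ((y ^ e : (P : Subgroup G)) : G)⁻¹ := by
        rw [eq_mul_inv_iff_mul_eq, ← coe_mul, ← he']
      rw [h2, coe_zpow]
      exact mul_mem w.2 (inv_mem (zpow_mem hyL e))
  obtain ⟨c, hc, hc1, hinv⟩ := N.exists_gen hy2 D.facts.cyclic hC
  obtain ⟨n, hn⟩ := P.2 c
  obtain ⟨m', -, hm'⟩ := (Nat.dvd_prime_pow Nat.prime_two).1 (orderOf_dvd_of_pow_eq_one hn)
  obtain ⟨m, rfl⟩ : ∃ m, m' = m + 1 :=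
    Nat.exists_eq_succ_of_ne_zero fun h0 => hc1 (orderOf_eq_one_iff.1 (by rw [hm', h0, pow_zero]))
  have hu : ∀ w : (P : Subgroup G), w ∈ commutator (P : Subgroup G) → w ≠ 1 →
      ∃ k : ℤ, w ^ k = top c m := by
    intro w hw hw1
    obtain ⟨a, rfl⟩ := mem_zpowers_iff.1 ((hc w).1 hw)
    exact exists_top_of_ne_one hm' hw1
  have hu1 := (top_eq_one_of_lt hm').2
  -- choose the factor
  have key : ∀ {x z : (P : Subgroup G)}, Setup P L x z → Normal P x z y r → Normal P z x y r →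
      (∀ i : ℤ, x ^ i ∈ commutator (P : Subgroup G) → x ^ i = 1) →
      ¬ IsConj ((top c m : (P : Subgroup G)) : G) ((x ^ 2 ^ (r - 1) : (P : Subgroup G)) : G) →
      ∃ n, 2 ≤ n ∧ Nonempty ((SL : Subgroup L) ≃* DihedralGroup n) := fun D N N' hxC hne =>
    D.dihedral_of_nonsquare hSL N N' hyL hy2 hc hm' hinv hxC hne
  have side : ∀ {x z : (P : Subgroup G)}, Setup P L x z → (∃ i : ℤ, z ^ i = top c m) →
      (∀ i : ℤ, x ^ i ∈ commutator (P : Subgroup G) → x ^ i = 1) ∧
      ∀ j : ℕ, x ^ j ≠ 1 → ¬ IsConj ((top c m : (P : Subgroup G)) : G) ((x ^ j : (P : Subgroup G)) : G) := by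
    rintro x z D ⟨l, hl⟩
    refine ⟨fun i hi => by_contra fun h1 => ?_, fun j hj hcj => ?_⟩
    · obtain ⟨k, hk⟩ := hu _ hi h1
      rw [← zpow_mul] at hk
      exact hu1 (hk ▸ D.disj _ _ (hk.trans hl.symm))
    · obtain ⟨g, hg⟩ := isConj_iff.1 hcj
      refine D.sep g⁻¹ (j : ℤ) l (by rwa [zpow_natCast]) ?_
      rw [zpow_natCast, ← hg, hl]
      group
  have hxtop : ∀ {x z : (P : Subgroup G)}, Normal P x z y r → x ^ 2 ^ (r - 1) ≠ 1 := by
    intro x z N e
    have h1 := (orderOf_map_dvd Abelianization.of x).trans (orderOf_dvd_of_pow_eq_one e)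
    rw [N.order] at h1
    have := (Nat.pow_dvd_pow_iff_le_right (by norm_num)).1 h1
    have := N.r_pos
    omega
  by_cases hz : ∃ i : ℤ, z ^ i = top c m
  · exact key D N N' (side D hz).1 ((side D hz).2 _ (hxtop N))
  by_cases hx : ∃ i : ℤ, x ^ i = top c m
  · exact key D.symm N' N (side D.symm hx).1 ((side D.symm hx).2 _ (hxtop N'))
  have hxC : ∀ {x : (P : Subgroup G)}, (¬ ∃ i : ℤ, x ^ i = top c m) →
      ∀ i : ℤ, x ^ i ∈ commutator (P : Subgroup G) → x ^ i = 1 := by
    intro x hx i hi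
    by_contra h1
    obtain ⟨k, hk⟩ := hu _ hi h1
    exact hx ⟨i * k, by rw [zpow_mul, hk]⟩
  by_cases hconj : IsConj ((top c m : (P : Subgroup G)) : G) ((x ^ 2 ^ (r - 1) : (P : Subgroup G)) : G)
  · refine key D.symm N' N (hxC hz) fun h => ?_
    obtain ⟨g, hg⟩ := isConj_iff.1 (hconj.symm.trans h)
    refine D.sep g ((2 ^ (r - 1) : ℕ) : ℤ) ((2 ^ (r - 1) : ℕ) : ℤ) ?_ ?_
    · rw [zpow_natCast]; exact hxtop N
    · rw [zpow_natCast, zpow_natCast]; exact hg
  · exact key D N N' (hxC hx) hconj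

end Cfsg.Agent.CyclicTimesZ
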