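import Cfsg.Agent.Lib.CyclicTimesZ.Socle
import Cfsg.Agent.Lib.CyclicTimesZ.ShapeMain
import Cfsg.Agent.Lib.CyclicTimesZ.Endgame
import Cfsg.Agent.Lib.SDCyclic.AutPGL
import Cfsg.Agent.Lib.SDCyclic.AutPrime
import Cfsg.Agent.Lib.GW.PartII.PartTwoFinal

/-!
# A cyclic-times-Z-group without solvable radical is `PGL₂(p)`
-/

set_option autoImplicit false
set_option linter.unusedSectionVars false
set_option linter.style.haveILetI false

namespace Cfsg.Agent.CyclicTimesZ

open Subgroup
open scoped MatrixGroups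

universe u

variable {G : Type u} [Group G] [Finite G] {A B L : Subgroup G}

theorem not_isSolvable_simple (hs : IsSimpleGroup L) (hna : ¬ IsMulCommutative L) : ¬ Group.IsSolvable L :=
  fun h => hna ⟨⟨IsSimpleGroup.comm_iff_isSolvable.2 h⟩⟩

theorem le_of_index_two [L.Normal] (hs : IsSimpleGroup L) (hna : ¬ IsMulCommutative L) {H : Subgroup G}
    (h : H.index = 2) : L ≤ H := by
  haveI := hs
  haveI := normal_of_index_eq_two h
  rcases Subgroup.Normal.eq_bot_or_eq_top (inferInstance : (H.subgroupOf L).Normal) with e | e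
  · exfalso
    apply not_isSolvable_simple hs hna
    haveI : IsCyclic (G ⧸ H) := by
      haveI : Fact (Nat.Prime 2) := ⟨Nat.prime_two⟩
      exact isCyclic_of_prime_card (by rw [← index_eq_card, h] : Nat.card (G ⧸ H) = 2)
    have hf : Function.Injective ((QuotientGroup.mk' H).comp L.subtype) := by
      refine (MonoidHom.ker_eq_bot_iff _).1 ?_
      rw [← MonoidHom.comap_ker, QuotientGroup.ker_mk']
      exact e
    haveI := isCyclic_of_injective _ hf
    letI := IsCyclic.commGroup (α := L)
    infer_instance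
  · exact subgroupOf_eq_top.1 e

/-- A factorization of a subgroup over `L`. -/
theorem Fac.restrict (F : Fac G A B) [hL : L.Normal] (hs : IsSimpleGroup L) (hna : ¬ IsMulCommutative L)
    (hC : centralizer (L : Set G) = ⊥) {H : Subgroup G} (hLH : L ≤ H) (hH : A ≤ H ∨ B ≤ H) :
    Fac H (A.subgroupOf H) (B.subgroupOf H) where
  cyc := by
    haveI := F.cyc
    exact isCyclic_of_injective ((H.subtype.comp (A.subgroupOf H).subtype).codRestrict A fun x => x.2)
      fun x y h => Subtype.ext (Subtype.ext (congrArg Subtype.val h :))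
  zg := by
    haveI := F.zg
    exact IsZGroup.of_injective (f := (H.subtype.comp (B.subgroupOf H).subtype).codRestrict B fun x => x.2)
      fun x y h => Subtype.ext (Subtype.ext (congrArg Subtype.val h :))
  mul h := by
    obtain ⟨a, ha, b, hb, e⟩ := F.mul h
    have hm : a * b ∈ H := e ▸ h.2
    rcases hH with hA | hB
    · have hbH : b ∈ H := by simpa using mul_mem (inv_mem (hA ha)) hm
      exact ⟨⟨a, hA ha⟩, ha, ⟨b, hbH⟩, hb, Subtype.ext e⟩
    · have haH : a ∈ H := by simpa using mul_mem hm (inv_mem (hB hb))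
      exact ⟨⟨a, haH⟩, ha, ⟨b, hB hb⟩, hb, Subtype.ext e⟩
  rad N hN hsol := by
    haveI := hN
    haveI := hs
    haveI := hsol
    haveI : (L.subgroupOf H).Normal := inferInstance
    have hinf : N ⊓ L.subgroupOf H = ⊥ := by
      haveI : IsSimpleGroup (L.subgroupOf H) :=
        haveI : Nontrivial (L.subgroupOf H) := (subgroupOfEquivOfLe hLH).toEquiv.nontrivial
        IsSimpleGroup.isSimpleGroup_of_surjective (subgroupOfEquivOfLe hLH).symm.toMonoidHom
          (subgroupOfEquivOfLe hLH).symm.surjective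
      rcases Subgroup.Normal.eq_bot_or_eq_top (inferInstance : (N.subgroupOf (L.subgroupOf H)).Normal) with e | e
      · rwa [subgroupOf_eq_bot, disjoint_iff] at e
      · exfalso
        have hle := subgroupOf_eq_top.1 e
        haveI : Group.IsSolvable (L.subgroupOf H) :=
          Group.isSolvable_of_isSolvable_injective (inclusion_injective hle)
        exact not_isSolvable_simple hs hna
          (Group.isSolvable_of_surjective (f := (subgroupOfEquivOfLe hLH).toMonoidHom)
            (subgroupOfEquivOfLe hLH).surjective)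
    rw [eq_bot_iff]
    intro w hw
    have hwC : (w : G) ∈ centralizer (L : Set G) := mem_centralizer_iff.2 fun x hx => by
      have h1 := commute_of_normal_of_disjoint N (L.subgroupOf H) hN inferInstance (disjoint_iff.2 hinf) w
        ⟨x, hLH hx⟩ hw hx
      exact (congrArg Subtype.val h1.eq).symm
    rw [hC, mem_bot] at hwC
    exact mem_bot.2 (Subtype.ext hwC)
  nsol h := not_isSolvable_simple hs hna
    (Group.isSolvable_of_isSolvable_injective (inclusion_injective hLH))

/-- An element of 2-power order generating a subgroup of odd index of a complement to `L` generates `P` modulo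
`L`. -/
theorem gen_mod [L.Normal] (P : Sylow 2 G) {K : Subgroup G} (hK : L ⊔ K = ⊤) {e : (P : Subgroup G)}
    (heK : (e : G) ∈ K) (hodd : ¬ 2 ∣ (zpowers (e : G)).relIndex K) (h2 : 2 ∣ L.index) :
    (e : G) ∉ L ∧ ∀ p : (P : Subgroup G), ∃ i : ℤ, ((e ^ i * p : (P : Subgroup G)) : G) ∈ L := by
  haveI : Fact (Nat.Prime 2) := ⟨Nat.prime_two⟩
  set π := QuotientGroup.mk' L with hπ
  have hsurj : Function.Surjective (π.comp K.subtype) := fun q => by
    obtain ⟨g, rfl⟩ := QuotientGroup.mk_surjective q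
    have hg : g ∈ L ⊔ K := hK ▸ mem_top g
    obtain ⟨l, hl, k, hk, rfl⟩ := mem_sup_of_normal_left.1 hg
    refine ⟨⟨k, hk⟩, QuotientGroup.eq.2 ?_⟩
    show k⁻¹ * (l * k) ∈ L
    rw [← mul_assoc]
    exact Normal.conj_mem' inferInstance l hl k
  have hidx : ¬ 2 ∣ (zpowers (π (e : G))).index := by
    have h1 : zpowers (π (e : G)) = (zpowers (⟨(e : G), heK⟩ : K)).map (π.comp K.subtype) := by
      rw [MonoidHom.map_zpowers]; rfl
    have h3 : ((zpowers (e : G)).subgroupOf K) = zpowers (⟨(e : G), heK⟩ : K) := by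
      rw [← comap_subtype, show zpowers (e : G) = (zpowers (⟨(e : G), heK⟩ : K)).map K.subtype by
        rw [MonoidHom.map_zpowers]; rfl, comap_map_eq_self_of_injective K.subtype_injective]
    rw [h1]
    intro hd
    refine hodd ?_
    rw [relIndex, h3]
    exact hd.trans (index_map_dvd _ hsurj)
  have hZ : zpowers (π (e : G)) = (P : Subgroup G).map π := by
    have hle : zpowers (π (e : G)) ≤ (P : Subgroup G).map π := zpowers_le.2 ⟨e, e.2, rfl⟩
    refine le_antisymm hle (relIndex_eq_one.1 ?_)
    obtain ⟨n, hn⟩ := (P.2.map π).index ((zpowers (π (e : G))).subgroupOf ((P : Subgroup G).map π))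
    have hd := relIndex_dvd_index_of_le hle
    rw [show (zpowers (π (e : G))).relIndex ((P : Subgroup G).map π) = 2 ^ n from hn] at hd ⊢
    rcases Nat.eq_zero_or_pos n with rfl | hn0
    · rfl
    · exact absurd ((dvd_pow_self 2 hn0.ne').trans hd) hidx
  refine ⟨fun he => hidx ?_, fun p => ?_⟩
  · rw [show π (e : G) = 1 from (QuotientGroup.eq_one_iff _).2 he, zpowers_one_eq_bot, index_bot,
      ← index_eq_card]
    exact h2
  · obtain ⟨i, hi⟩ := mem_zpowers_iff.1 (hZ.ge (mem_map_of_mem π p.2))
    refine ⟨-i, (QuotientGroup.eq_one_iff _).1 ?_⟩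
    show π ((e ^ (-i) * p : (P : Subgroup G)) : G) = 1
    rw [coe_mul, coe_zpow, map_mul, map_zpow, ← hi, zpow_neg, inv_mul_cancel]

/-- The case `G = L A = L B`. -/
theorem Fac.socle_iso_of_top (F : Fac G A B) [hL : L.Normal] (hs : IsSimpleGroup L)
    (hna : ¬ IsMulCommutative L) (hC : centralizer (L : Set G) = ⊥) (hLA : L ⊔ A = ⊤) (hLB : L ⊔ B = ⊤) :
    ∃ p : ℕ, ∃ _ : Fact p.Prime, 3 < p ∧ Nonempty (L ≃* PSL(2, ZMod p)) := by
  obtain ⟨H, hH⟩ := F.exists_index_two
  have h2 : 2 ∣ L.index := hH ▸ index_dvd_of_le (le_of_index_two hs hna hH)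
  obtain ⟨P, a, d, g, hprod, hdisj, hsep, ⟨haA, haodd⟩, hdB, hdodd⟩ := F.exists_sylow
  have hLBg : L ⊔ B.map (MulAut.conj g).toMonoidHom = ⊤ := by
    have h1 : L.map (MulAut.conj g).toMonoidHom = L := by
      ext x
      rw [mem_map]
      constructor
      · rintro ⟨y, hy, rfl⟩
        exact hL.conj_mem y hy g
      · intro hx
        exact ⟨g⁻¹ * x * g, hL.conj_mem' x hx g, by simp [mul_assoc]⟩
    rw [← h1, ← Subgroup.map_sup, hLB]
    exact map_top_of_surjective _ (MulAut.conj g).surjective
  have hdBg : (d : G) ∈ B.map (MulAut.conj g).toMonoidHom :=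
    ⟨g⁻¹ * d * g, hdB, by simp [mul_assoc]⟩
  obtain ⟨hao, hag⟩ := gen_mod P hLA haA haodd h2
  obtain ⟨hdo, hdg⟩ := gen_mod P hLBg hdBg hdodd h2
  have D : Setup P L a d :=
    { normal := hL
      simple := hs
      nonab := hna
      prod := hprod
      disj := hdisj
      sep := hsep
      x_out := hao
      z_out := hdo
      gen_x := hag
      gen_z := hdg
      facts := bicyclic_facts P hprod F.nsol }
  rcases GW.isKnown_of_simple GW.partTwo L hs D.sylow_dihedral with ⟨K, iK, iK', hodd, h3, ⟨e⟩⟩ | ⟨⟨e⟩⟩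
  · have hp := F.card_prime hC hLB hodd e
    obtain ⟨p, hpK⟩ : ∃ p, Fintype.card K = p := ⟨_, rfl⟩
    rw [hpK] at hp h3
    haveI := Fact.mk hp
    exact ⟨p, ‹_›, h3, ⟨e.trans (PSL2.pslCongr (ZMod.ringEquivOfPrime K hp hpK).symm)⟩⟩
  · exact (F.false_of_seven hC hLB e).elim

/-- What is proved: `PSL₂(p)` self-centralising of index two. -/
def Concl (G : Type u) [Group G] : Prop :=
  ∃ p : ℕ, ∃ _ : Fact p.Prime, 3 < p ∧ ∃ L : Subgroup G, L.Normal ∧ centralizer (L : Set G) = ⊥ ∧
    L.index = 2 ∧ Nonempty (L ≃* PSL(2, ZMod p))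

theorem Fac.concl : ∀ {G : Type u} [Group G] [Finite G] {A B : Subgroup G}, Fac G A B → Concl G := by
  suffices key : ∀ (n : ℕ) (G : Type u) [Group G] [Finite G] (A B : Subgroup G), Nat.card G = n →
      Fac G A B → Concl G from fun {G} _ _ {A B} F => key _ G A B rfl F
  intro n
  induction n using Nat.strong_induction_on with
  | _ n ih =>
    intro G _ _ A B hn F
    obtain ⟨L, hL, hs, hna, hC⟩ := F.exists_socle
    haveI := hL
    haveI := hs
    obtain ⟨p, hp, h3, ⟨e⟩⟩ : ∃ p : ℕ, ∃ _ : Fact p.Prime, 3 < p ∧ Nonempty (L ≃* PSL(2, ZMod p)) := by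
      -- a proper subgroup over `L`
      have step : ∀ H : Subgroup G, L ≤ H → H ≠ ⊤ → (A ≤ H ∨ B ≤ H) →
          ∃ p : ℕ, ∃ _ : Fact p.Prime, 3 < p ∧ Nonempty (L ≃* PSL(2, ZMod p)) := by
        intro H hLH hH hAB
        have hlt : Nat.card H < n := hn ▸ lt_of_le_of_ne
          (Nat.le_of_dvd Nat.card_pos H.card_subgroup_dvd_card) fun h => hH ((H.card_eq_iff_eq_top).1 h)
        obtain ⟨p, hp, h3, M, hM, hMC, -, ⟨e⟩⟩ :=
          ih _ hlt H _ _ rfl (F.restrict hs hna hC hLH hAB)
        refine ⟨p, hp, h3, ?_⟩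
        haveI := hM
        haveI : Fact p.Prime := hp
        have hMsimple : IsSimpleGroup M := by
          haveI := PSL2.psl_isSimpleGroup (F := ZMod p) (by rw [ZMod.card]; omega)
          haveI : Nontrivial M := e.toEquiv.nontrivial
          exact IsSimpleGroup.isSimpleGroup_of_surjective e.symm.toMonoidHom e.symm.surjective
        haveI := hMsimple
        haveI : (L.subgroupOf H).Normal := inferInstance
        haveI : IsSimpleGroup (L.subgroupOf H) :=
          haveI : Nontrivial (L.subgroupOf H) := (subgroupOfEquivOfLe hLH).toEquiv.nontrivial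
        IsSimpleGroup.isSimpleGroup_of_surjective (subgroupOfEquivOfLe hLH).symm.toMonoidHom
            (subgroupOfEquivOfLe hLH).symm.surjective
        have hinf : M ⊓ L.subgroupOf H ≠ ⊥ := fun h => by
          have hle : M ≤ (⊥ : Subgroup H) := fun w hw => by
            have hwC : (w : G) ∈ centralizer (L : Set G) := mem_centralizer_iff.2 fun x hx => by
              have h1 := commute_of_normal_of_disjoint M (L.subgroupOf H) hM inferInstance
                (disjoint_iff.2 h) w ⟨x, hLH hx⟩ hw hx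
              exact (congrArg Subtype.val h1.eq).symm
            rw [hC, mem_bot] at hwC
            exact mem_bot.2 (Subtype.ext hwC)
          exact (nontrivial_iff_ne_bot M).1 inferInstance (le_bot_iff.1 hle)
        have h1 : M ≤ L.subgroupOf H := by
          rcases Subgroup.Normal.eq_bot_or_eq_top
            (inferInstance : ((L.subgroupOf H).subgroupOf M).Normal) with e' | e'
          · exact absurd (by rwa [subgroupOf_eq_bot, disjoint_iff, inf_comm] at e') hinf
          · exact subgroupOf_eq_top.1 e'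
        have h2 : L.subgroupOf H ≤ M := by
          rcases Subgroup.Normal.eq_bot_or_eq_top
            (inferInstance : (M.subgroupOf (L.subgroupOf H)).Normal) with e' | e'
          · exact absurd (by rwa [subgroupOf_eq_bot, disjoint_iff] at e') hinf
          · exact subgroupOf_eq_top.1 e'
        exact ⟨(subgroupOfEquivOfLe hLH).symm.trans
          ((MulEquiv.subgroupCongr (le_antisymm h2 h1)).trans e)⟩
      by_cases hA : L ⊔ A = ⊤
      · by_cases hB : L ⊔ B = ⊤
        · exact F.socle_iso_of_top hs hna hC hA hB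
        · exact step _ le_sup_left hB (Or.inr le_sup_right)
      · exact step _ le_sup_left hA (Or.inl le_sup_right)
    haveI : Fact p.Prime := hp
    refine ⟨p, hp, h3, L, hL, hC, ?_, ⟨e⟩⟩
    obtain ⟨ψ, hψ⟩ := exists_mulAut_embedding hC e
    have hodd : Odd (Fintype.card (ZMod p)) := by
      rw [ZMod.card]; exact hp.out.odd_of_ne_two (by omega)
    obtain ⟨hfin, hle⟩ := SDCyclic.card_mulAut_le_two (F := ZMod p) hodd (by rw [ZMod.card]; exact hp.out)
    haveI := hfin
    have h1 := (Nat.card_le_card_of_injective ψ hψ).trans hle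
    rw [← L.card_mul_index, ← Nat.card_congr e.toEquiv, mul_comm 2] at h1
    have h2 := Nat.le_of_mul_le_mul_left h1 Nat.card_pos
    obtain ⟨H, hH⟩ := F.exists_index_two
    have h4 : 2 ∣ L.index := hH ▸ index_dvd_of_le (le_of_index_two hs hna hH)
    have := Nat.le_of_dvd (Nat.pos_of_ne_zero index_ne_zero_of_finite) h4
    omega

/-- `G ≅ PGL₂(p)`. -/
theorem Fac.exists_pgl (F : Fac G A B) :
    ∃ p : ℕ, ∃ _ : Fact p.Prime, 3 < p ∧ Nonempty (G ≃* PGL(2, ZMod p)) := by
  obtain ⟨p, hp, h3, L, hL, hC, hi, ⟨e⟩⟩ := F.concl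
  haveI := hL
  haveI : Fact p.Prime := hp
  obtain ⟨f, hf, -⟩ := SDCyclic.exists_embedding L hC e
  haveI : Finite PGL(2, ZMod p) := PSL2.pgl_finite
  refine ⟨p, hp, h3, ⟨MulEquiv.ofBijective f ((Nat.bijective_iff_injective_and_card _).2 ⟨hf, ?_⟩)⟩⟩
  rw [PSL2.Maximal.card_pgl_eq (by rw [ZMod.card]; exact hp.out.odd_of_ne_two (by omega)),
    ← L.card_mul_index, hi, Nat.card_congr e.toEquiv, mul_comm]

end Cfsg.Agent.CyclicTimesZ
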