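import Cfsg.Agent.Lib.CyclicTimesZ.SimpleShapes
import Cfsg.Agent.Lib.CyclicTimesZ.Facts
import Cfsg.Agent.Lib.GW.KType
import Cfsg.Agent.Lib.PGroup.Frattini
import Cfsg.Agent.Lib.Transfer.ConjFamily

/-!
# The Sylow 2-subgroup of a simple normal subgroup of a group with a bicyclic Sylow 2-subgroup

`sylow_dihedral`: if `P = ⟨x⟩⟨z⟩` with `⟨x⟩ ∩ ⟨z⟩ = 1`, the involutions of `⟨x⟩` and `⟨z⟩` are not conjugate
and each of `x`, `z` generates `P` modulo the simple normal subgroup `L`, then `L` has dihedral Sylow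
2-subgroups.
-/

set_option autoImplicit false
set_option linter.unusedSectionVars false

namespace Cfsg.Agent.CyclicTimesZ

open Subgroup
open scoped commutatorElement

universe u

variable {G : Type u} [Group G] [Finite G]

/-- The hypotheses. -/
structure Setup (P : Sylow 2 G) (L : Subgroup G) (x z : (P : Subgroup G)) : Prop where
  normal : L.Normal
  simple : IsSimpleGroup L
  nonab : ¬ IsMulCommutative L
  prod : ∀ g : (P : Subgroup G), ∃ i j : ℤ, g = x ^ i * z ^ j
  disj : ∀ i j : ℤ, x ^ i = z ^ j → x ^ i = 1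
  sep : ∀ (g : G) (i j : ℤ), x ^ i ≠ 1 → g * ((x ^ i : (P : Subgroup G)) : G) * g⁻¹ ≠ ((z ^ j : (P : Subgroup G)) : G)
  x_out : (x : G) ∉ L
  z_out : (z : G) ∉ L
  gen_x : ∀ p : (P : Subgroup G), ∃ i : ℤ, ((x ^ i * p : (P : Subgroup G)) : G) ∈ L
  gen_z : ∀ p : (P : Subgroup G), ∃ i : ℤ, ((z ^ i * p : (P : Subgroup G)) : G) ∈ L
  facts : Facts (P : Subgroup G)

namespace Setup

variable {P : Sylow 2 G} {L : Subgroup G} {x z : (P : Subgroup G)} (D : Setup P L x z)
include D

theorem symm : Setup P L z x where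
  normal := D.normal
  simple := D.simple
  nonab := D.nonab
  prod g := by
    obtain ⟨i, j, h⟩ := D.prod g⁻¹
    exact ⟨-j, -i, by rw [zpow_neg, zpow_neg, ← mul_inv_rev, ← h, inv_inv]⟩
  disj i j h := by rw [h]; exact (D.disj j i h.symm) ▸ rfl
  sep g i j hi h := by
    refine D.sep g⁻¹ j i ?_ ?_
    · intro e
      rw [e, OneMemClass.coe_one] at h
      exact hi (Subtype.ext (by simpa using h))
    · rw [← h]; group
  x_out := D.z_out
  z_out := D.x_out
  gen_x := D.gen_z
  gen_z := D.gen_x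
  facts := D.facts

/-- The part of `P` inside `L`. -/
theorem exists_sylow : ∃ SL : Sylow 2 L, ∀ w : L, w ∈ (SL : Subgroup L) ↔ (w : G) ∈ (P : Subgroup G) := by
  haveI : Fact (Nat.Prime 2) := ⟨Nat.prime_two⟩
  haveI := D.normal
  refine ⟨(P.2.comap_subtype (K := L)).toSylow
    (Transfer.not_dvd_index_subgroupOf_of_normal P L), fun w => ?_⟩
  exact Iff.rfl

/-- The derived subgroup lies in `L`. -/
theorem commutator_le : commutator (P : Subgroup G) ≤ L.subgroupOf (P : Subgroup G) := by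
  haveI := D.normal
  haveI : IsCyclic ((P : Subgroup G) ⧸ L.subgroupOf (P : Subgroup G)) := by
    refine ⟨⟨QuotientGroup.mk x, fun q => ?_⟩⟩
    induction q using QuotientGroup.induction_on with
    | H p =>
      obtain ⟨i, hi⟩ := D.gen_x p
      refine mem_zpowers_iff.2 ⟨-i, ?_⟩
      rw [← QuotientGroup.mk_zpow, QuotientGroup.eq, zpow_neg, inv_inv]
      exact hi
  rw [commutator_def, Subgroup.commutator_le]
  exact fun a _ b _ => PGroup.MetacyclicTwo.comm_of_cyclic_quotient _ a b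

theorem mem_iff_of_mk_eq {p q : (P : Subgroup G)}
    (h : Abelianization.of p = Abelianization.of q) : (p : G) ∈ L ↔ (q : G) ∈ L := by
  have h1 : p⁻¹ * q ∈ Abelianization.of.ker := by
    rw [MonoidHom.mem_ker, map_mul, map_inv, h, inv_mul_cancel]
  rw [Abelianization.ker_of] at h1
  have h2 : ((p⁻¹ * q : (P : Subgroup G)) : G) ∈ L := D.commutator_le h1
  rw [coe_mul, coe_inv] at h2
  constructor
  · intro hp; simpa using mul_mem hp h2
  · intro hq; simpa using mul_mem hq (inv_mem h2)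

/-- A generator of `P` modulo `L` lying in a cyclic group with odd exponent. -/
theorem odd_of_congr {a : ℤ} {e : (P : Subgroup G)} (he : (e : G) ∈ L)
    (h : Abelianization.of x = Abelianization.of (z ^ a * e)) : ¬ 2 ∣ a := by
  rintro ⟨b, rfl⟩
  haveI := D.normal
  obtain ⟨i, hi⟩ := D.gen_x z
  set π := QuotientGroup.mk' (L.subgroupOf (P : Subgroup G)) with hπ
  have hone : ∀ w : (P : Subgroup G), (w : G) ∈ L → π w = 1 := fun w hw =>
    (QuotientGroup.eq_one_iff w).2 hw
  have hx : π x = π z ^ (2 * b) := by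
    have h1 : x⁻¹ * (z ^ (2 * b) * e) ∈ commutator (P : Subgroup G) := by
      rw [← Abelianization.ker_of, MonoidHom.mem_ker, map_mul, map_inv, h, inv_mul_cancel]
    have h2 := hone _ (D.commutator_le h1)
    rw [map_mul, map_mul, map_inv, map_zpow, hone e he, mul_one, inv_mul_eq_one] at h2
    exact h2
  have hz : π z ^ (2 * b * i + 1) = 1 := by
    have h2 := hone _ hi
    rwa [map_mul, map_zpow, hx, ← zpow_mul, ← zpow_add_one] at h2
  obtain ⟨k, hk⟩ := P.2 z
  have hk' : π z ^ 2 ^ k = 1 := by rw [← map_pow, hk, map_one]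
  refine D.z_out ((QuotientGroup.eq_one_iff (N := L.subgroupOf (P : Subgroup G)) z).1
    (orderOf_eq_one_iff.1 ?_))
  refine Nat.eq_one_of_dvd_one ?_
  have h1 : (orderOf (π z) : ℤ) ∣ 2 * b * i + 1 := orderOf_dvd_iff_zpow_eq_one.2 hz
  obtain ⟨j, -, hj⟩ := (Nat.dvd_prime_pow Nat.prime_two).1 (orderOf_dvd_of_pow_eq_one hk')
  cases j with
  | zero => exact dvd_of_eq (hj.trans (pow_zero 2))
  | succ j =>
    exfalso
    rw [hj] at h1
    push_cast at h1
    rw [pow_succ'] at h1
    have h2 : (2 : ℤ) ∣ 2 * b * i + 1 := (dvd_mul_right 2 _).trans h1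
    rw [mul_assoc] at h2
    omega

end Setup

/-- In a group of 2-power exponent odd powers generate. -/
theorem exists_zpow_odd {A : Type*} [Group A] (hA : IsPGroup 2 A) {a : A} {i : ℤ} (hi : ¬ 2 ∣ i) :
    ∃ k : ℤ, ¬ 2 ∣ k ∧ (a ^ i) ^ k = a := by
  obtain ⟨n, hn⟩ := hA a
  obtain ⟨s, t, hst⟩ : IsCoprime i ((2 : ℤ) ^ (n + 1)) :=
    IsCoprime.pow_right ((Int.prime_two.coprime_iff_not_dvd).2 hi).symm
  refine ⟨s, fun hs => ?_, ?_⟩
  · have h2 : (2 : ℤ) ∣ s * i + t * 2 ^ (n + 1) :=
      dvd_add (hs.mul_right i) ((dvd_pow_self 2 (Nat.succ_ne_zero n)).mul_left t)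
    rw [hst] at h2
    omega
  · rw [← zpow_mul, show i * s = 1 + 2 ^ (n + 1) * (-t) by linear_combination hst, zpow_add, zpow_one,
      zpow_mul, show (2 : ℤ) ^ (n + 1) = ((2 ^ (n + 1) : ℕ) : ℤ) by push_cast; rfl, zpow_natCast,
      pow_succ, pow_mul, hn, one_pow, one_zpow, mul_one]

/-- The shape of `P` modulo its derived subgroup, `y` an involution of `L` which is no square there. -/
structure Normal (P : Sylow 2 G) (x z y : (P : Subgroup G)) (r : ℕ) : Prop where
  r_pos : 1 ≤ r
  order : orderOf (Abelianization.of x) = 2 ^ r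
  z_eq : ∃ a k : ℤ, ¬ 2 ∣ a ∧ Abelianization.of z = Abelianization.of x ^ a * Abelianization.of y ^ k
  form : ∀ p : (P : Subgroup G), ∃ a e : ℤ,
    Abelianization.of p = Abelianization.of x ^ a * Abelianization.of y ^ e
  indep : ∀ a : ℤ, Abelianization.of y ≠ Abelianization.of x ^ a
  card : Nat.card (P : Subgroup G) = Nat.card (commutator (P : Subgroup G)) * 2 ^ (r + 1)

theorem Setup.exists_normal {P : Sylow 2 G} {L : Subgroup G} {x z y : (P : Subgroup G)}
    (D : Setup P L x z) (hyL : (y : G) ∈ L) (hy2 : y * y = 1)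
    (hy : ∀ q : (P : Subgroup G), Abelianization.of y ≠ Abelianization.of q * Abelianization.of q) :
    ∃ r, Normal P x z y r ∧ Normal P z x y r := by
  haveI : Fact (Nat.Prime 2) := ⟨Nat.prime_two⟩
  have hA : IsPGroup 2 (Abelianization (P : Subgroup G)) :=
    IsPGroup.of_surjective P.2 Abelianization.of (QuotientGroup.mk'_surjective _)
  set X := Abelianization.of x
  set Z := Abelianization.of z
  set Y := Abelianization.of y
  have hY2 : Y * Y = 1 := by rw [← map_mul, hy2, map_one]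
  -- `X` and `Z` agree up to an odd exponent and `Y`
  have key : ∃ a k : ℤ, ¬ 2 ∣ a ∧ X = Z ^ a * Y ^ k := by
    obtain ⟨i, j, hij⟩ := D.prod y
    have hY : Y = X ^ i * Z ^ j := by
      simp only [X, Y, Z]; rw [hij, map_mul, map_zpow, map_zpow]
    by_cases hi : 2 ∣ i
    · by_cases hj : 2 ∣ j
      · obtain ⟨i', rfl⟩ := hi
        obtain ⟨j', rfl⟩ := hj
        refine absurd ?_ (hy (x ^ i' * z ^ j'))
        show Y = _
        rw [hY, map_mul, map_zpow, map_zpow, mul_mul_mul_comm, ← zpow_add, ← zpow_add, two_mul,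
          two_mul]
      · obtain ⟨s, hs, hZ⟩ := exists_zpow_odd hA (a := Z) hj
        have hZ' : Z = X ^ (-i * s) * Y ^ s := by
          rw [zpow_mul, ← mul_zpow, zpow_neg, hY, inv_mul_cancel_left, hZ]
        have hodd : ¬ 2 ∣ -i * s := D.symm.odd_of_congr (e := y ^ s)
          (by rw [coe_zpow]; exact zpow_mem hyL s) (by rw [map_mul, map_zpow, map_zpow]; exact hZ')
        exact absurd ((dvd_neg.2 hi).mul_right s) hodd
    · obtain ⟨s, hs, hX⟩ := exists_zpow_odd hA (a := X) hi
      refine ⟨-j * s, s, ?_, ?_⟩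
      · refine D.odd_of_congr (e := y ^ s) (by rw [coe_zpow]; exact zpow_mem hyL s) ?_
        rw [map_mul, map_zpow, map_zpow]
        show X = Z ^ (-j * s) * Y ^ s
        rw [zpow_mul, ← mul_zpow, zpow_neg, hY, mul_comm (X ^ i), inv_mul_cancel_left, hX]
      · rw [zpow_mul, ← mul_zpow, zpow_neg, hY, mul_comm (X ^ i), inv_mul_cancel_left, hX]
  obtain ⟨a, k, ha, hX⟩ := key
  obtain ⟨s, hs, hsZ⟩ := exists_zpow_odd hA (a := Z) ha
  have hZ : Z = X ^ s * Y ^ (-k * s) := by
    rw [zpow_mul, ← mul_zpow, zpow_neg, hX, mul_inv_cancel_right, hsZ]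
  have mk : ∀ {x z : (P : Subgroup G)}, Setup P L x z → ∀ (a k : ℤ), ¬ 2 ∣ a →
      Abelianization.of z = Abelianization.of x ^ a * Y ^ k →
      ∃ r, Normal P x z y r := by
    intro x z D a k ha hz
    have hform : ∀ p : (P : Subgroup G), ∃ b e : ℤ,
        Abelianization.of p = Abelianization.of x ^ b * Y ^ e := by
      intro p
      obtain ⟨i, j, rfl⟩ := D.prod p
      refine ⟨i + a * j, k * j, ?_⟩
      rw [map_mul, map_zpow, map_zpow, hz, mul_zpow, ← zpow_mul, ← zpow_mul, ← mul_assoc, ← zpow_add]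
    have hind : ∀ b : ℤ, Y ≠ Abelianization.of x ^ b := by
      intro b hb
      by_cases hb2 : 2 ∣ b
      · obtain ⟨b', rfl⟩ := hb2
        refine hy (x ^ b') ?_
        show Y = _
        rw [hb, map_zpow, ← zpow_add, two_mul]
      · obtain ⟨s, -, hs⟩ := exists_zpow_odd hA (a := Abelianization.of x) hb2
        refine D.x_out ?_
        have h1 : Abelianization.of x = Abelianization.of (y ^ s) := by rw [map_zpow]; rw [← hs, ← hb]
        rw [D.mem_iff_of_mk_eq h1, coe_zpow]
        exact zpow_mem hyL s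
    obtain ⟨n, hn⟩ := hA (Abelianization.of x)
    obtain ⟨r, -, hr⟩ := (Nat.dvd_prime_pow Nat.prime_two).1 (orderOf_dvd_of_pow_eq_one hn)
    have hr1 : 1 ≤ r := by
      refine Nat.one_le_iff_ne_zero.2 fun h0 => D.x_out ?_
      subst h0
      have h1 : Abelianization.of x = Abelianization.of (1 : (P : Subgroup G)) := by
        rw [map_one, ← orderOf_eq_one_iff, hr, pow_zero]
      rw [D.mem_iff_of_mk_eq h1]
      exact L.one_mem
    refine ⟨r, hr1, hr, ⟨a, k, ha, hz⟩, hform, hind, ?_⟩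
    have hidx : (zpowers (Abelianization.of x)).index = 2 := by
      refine index_eq_two_iff.2 ⟨Y, fun b => ?_⟩
      obtain ⟨p, rfl⟩ : ∃ p, Abelianization.of p = b := QuotientGroup.mk'_surjective _ b
      obtain ⟨b, e, he⟩ := hform p
      rw [he]
      have hYn : Y ∉ zpowers (Abelianization.of x) := fun h => by
        obtain ⟨q, hq⟩ := mem_zpowers_iff.1 h; exact hind q hq.symm
      obtain ⟨e', rfl | rfl⟩ := Int.even_or_odd' e
      · rw [zpow_mul, zpow_two, hY2, one_zpow, mul_one]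
        exact Or.inr ⟨zpow_mem_zpowers _ _, fun h =>
          hYn ((mul_mem_cancel_left (zpow_mem_zpowers _ _)).1 h)⟩
      · rw [zpow_add, zpow_mul, zpow_two, hY2, one_zpow, one_mul, zpow_one]
        refine Or.inl ⟨?_, fun h => hYn ((mul_mem_cancel_left (zpow_mem_zpowers _ _)).1 h)⟩
        rw [mul_assoc, hY2, mul_one]
        exact zpow_mem_zpowers _ _
    have h1 := card_mul_index (zpowers (Abelianization.of x))
    rw [hidx, Nat.card_zpowers, hr] at h1
    rw [card_eq_card_quotient_mul_card_subgroup (commutator (P : Subgroup G)), mul_comm]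
    congr 1
    rw [show Nat.card ((P : Subgroup G) ⧸ commutator (P : Subgroup G)) =
      Nat.card (Abelianization (P : Subgroup G)) from rfl, ← h1, pow_succ]
  obtain ⟨r, hr⟩ := mk D s (-k * s) hs hZ
  obtain ⟨r', hr'⟩ := mk D.symm a k ha hX
  have heq : 2 ^ (r + 1) = 2 ^ (r' + 1) :=
    Nat.eq_of_mul_eq_mul_left Nat.card_pos (hr.card.symm.trans hr'.card)
  obtain rfl : r = r' := by
    have := Nat.pow_right_injective le_rfl heq
    omega
  exact ⟨r, hr, hr'⟩

end Cfsg.Agent.CyclicTimesZ
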