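import Cfsg.Agent.Lib.CyclicTimesZ.ThreeInvolutions
import Cfsg.Agent.Lib.SDCyclic.DihedralIso

/-!
# Some 2-groups that are no Sylow 2-subgroups of simple groups

* `false_of_top_power`: transfer by an element of order at least four;
* `Frame`: `S = ⟨c, y, ι⟩` with `y` inverting `c` and `ι` an involution centralising `c`;
* `false_of_central`, `false_of_twisted`: the cases `[y, ι] = 1` and `[y, ι] = u`, `u` the involution of `⟨c⟩`;
* `dihedral_of_inverted`.
-/

set_option autoImplicit false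
set_option linter.unusedSectionVars false

namespace Cfsg.Agent.CyclicTimesZ

open Subgroup

universe u

variable {L : Type u} [Group L] [Finite L]

/-- In a cyclic 2-group an element squaring to one is trivial or the involution. -/
theorem eq_top_of_sq {c : L} {m : ℕ} (hc : orderOf c = 2 ^ (m + 1)) {a : ℤ}
    (h : c ^ a * c ^ a = 1) : c ^ a = 1 ∨ c ^ a = top c m := by
  by_cases h1 : c ^ a = 1
  · exact Or.inl h1
  · obtain ⟨k, hk⟩ := exists_top_of_ne_one hc h1
    obtain ⟨q, rfl | rfl⟩ := Int.even_or_odd' k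
    · exfalso
      rw [zpow_mul (c ^ a), zpow_two, h, one_zpow] at hk
      exact (top_eq_one_of_lt hc).2 hk.symm
    · rw [zpow_add, zpow_mul (c ^ a), zpow_two, h, one_zpow, one_mul, zpow_one] at hk
      exact Or.inr hk

/-- A dihedral Sylow subgroup from an inverted cyclic one. -/
theorem dihedral_of_inverted {S : Subgroup L} {x t : L} {k : ℕ} (hk : 2 ≤ k) (hx : orderOf x = 2 ^ k)
    (ht : t * t = 1) (hinv : t * x * t⁻¹ = x⁻¹) (hxS : x ∈ S) (htS : t ∈ S)
    (hcov : ∀ w ∈ S, ∃ a : ℤ, w = x ^ a ∨ w = x ^ a * t) :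
    ∃ n, 2 ≤ n ∧ Nonempty (S ≃* DihedralGroup n) := by
  refine ⟨2 ^ k, ?_, SDCyclic.nonempty_dihedral (x := x) (t := t) ⟨hk, hx, ht, hinv, ?_⟩⟩
  · calc 2 ≤ 2 ^ 2 := by norm_num
      _ ≤ 2 ^ k := Nat.pow_le_pow_right (by norm_num) hk
  · refine le_antisymm (fun w hw => ?_) (sup_le (zpowers_le.2 hxS) (zpowers_le.2 htS))
    obtain ⟨a, rfl | rfl⟩ := hcov w hw
    · exact mem_sup_left (zpow_mem_zpowers x a)
    · exact mul_mem (mem_sup_left (zpow_mem_zpowers x a)) (mem_sup_right (mem_zpowers t))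

section Simple

variable [IsSimpleGroup L]

/-- Transfer by an element of order at least four. -/
theorem false_of_top_power (hL : ¬ IsMulCommutative L) (S : Sylow 2 L) (Q : Subgroup L)
    (hQS : Q ≤ (S : Subgroup L)) (hQi : Q.relIndex (S : Subgroup L) = 2) {x u : L} {h : ℕ}
    (hxS : x ∈ (S : Subgroup L)) (hxQ : x ∉ Q) (hx : orderOf x = 2 ^ (h + 1))
    (hQu : ∀ w ∈ Q, orderOf w = 2 ^ (h + 1) → top w h = u)
    (hlow : ∀ w ∈ (S : Subgroup L), w ^ 2 ^ h = 1 → w ∈ Q)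
    (hne : ¬ IsConj u (top x h)) : False := by
  have hconj : ∀ g : L, g⁻¹ * x * g ∉ Q := by
    intro g hg
    refine hne (isConj_iff.2 ⟨g⁻¹⁻¹⁻¹⁻¹, ?_⟩)
    have ho : orderOf (g⁻¹ * x * g) = 2 ^ (h + 1) := by
      rw [← hx, show g⁻¹ * x * g = MulAut.conj g⁻¹ x by simp, MulEquiv.orderOf_eq]
    have e := hQu _ hg ho
    rw [← e, top, top, show g⁻¹ * x * g = g⁻¹ * x * g⁻¹⁻¹ by rw [inv_inv], conj_pow]
    group
  have hpow : ∀ (g : L) (i : ℕ), 0 < i → g⁻¹ * x ^ 2 ^ i * g ∈ (S : Subgroup L) →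
      g⁻¹ * x ^ 2 ^ i * g ∈ Q := by
    intro g i hi hmem
    refine hlow _ hmem ?_
    rw [show g⁻¹ * x ^ 2 ^ i * g = g⁻¹ * x ^ 2 ^ i * g⁻¹⁻¹ by rw [inv_inv], conj_pow, ← pow_mul,
      ← pow_add]
    obtain ⟨j, rfl⟩ : ∃ j, i = j + 1 := ⟨i - 1, by omega⟩
    rw [show j + 1 + h = h + 1 + j by ring, pow_add, pow_mul, ← hx, pow_orderOf_eq_one, one_pow]
    group
  obtain ⟨M, -, hM, -⟩ := Transfer.exists_index_two_of_conj S Q hQS hQi x hxS hxQ hconj hpow
  exact RankTwoSimple.index_ne_two hL M hM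

end Simple

/-- A cyclic group with an inverting involution and a centralising involution. -/
structure Frame (S : Subgroup L) (c y ι : L) (m : ℕ) : Prop where
  c_mem : c ∈ S
  y_mem : y ∈ S
  ι_mem : ι ∈ S
  c_order : orderOf c = 2 ^ (m + 1)
  y_sq : y * y = 1
  ι_sq : ι * ι = 1
  inv : y * c * y⁻¹ = c⁻¹
  comm : Commute ι c
  ι_out : ∀ a : ℤ, ι ≠ c ^ a
  y_out : ∀ a : ℤ, y ≠ c ^ a ∧ y ≠ c ^ a * ι
  cover : ∀ w ∈ S, ∃ a : ℤ, w = c ^ a ∨ w = c ^ a * y ∨ w = c ^ a * ι ∨ w = c ^ a * (y * ι)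

namespace Frame

variable {S : Subgroup L} {c y ι : L} {m : ℕ} (F : Frame S c y ι m)
include F

theorem conj_zpow (a : ℤ) : y * c ^ a * y⁻¹ = c ^ (-a) := by
  rw [← _root_.conj_zpow, F.inv, zpow_neg, inv_zpow]

theorem swap (a : ℤ) : y * c ^ a = c ^ (-a) * y := by
  rw [← F.conj_zpow a, inv_mul_cancel_right]

theorem top_mem : top c m ∈ S := pow_mem F.c_mem _

theorem top_inv : (top c m)⁻¹ = top c m :=
  inv_eq_of_mul_eq_one_right (top_eq_one_of_lt F.c_order).1

theorem top_y : Commute (top c m) y := by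
  have h := F.conj_zpow ((2 ^ m : ℕ) : ℤ)
  rw [zpow_neg, zpow_natCast, ← top, F.top_inv, mul_inv_eq_iff_eq_mul] at h
  exact h.symm

theorem top_central : ∀ s ∈ S, Commute (top c m) s := by
  have hc : Commute (top c m) c := (Commute.refl c).pow_left _
  have hi : Commute (top c m) ι := (F.comm.symm.pow_left _)
  intro s hs
  obtain ⟨a, rfl | rfl | rfl | rfl⟩ := F.cover s hs
  · exact hc.zpow_right a
  · exact (hc.zpow_right a).mul_right F.top_y
  · exact (hc.zpow_right a).mul_right hi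
  · exact (hc.zpow_right a).mul_right (F.top_y.mul_right hi)

/-- `⟨c, e⟩` for an involution `e` inverting `c`. -/
def half {e : L} (he : e * e = 1) (hinv : ∀ a : ℤ, e * c ^ a = c ^ (-a) * e) : Subgroup L where
  carrier := {w | ∃ a : ℤ, w = c ^ a ∨ w = c ^ a * e}
  one_mem' := ⟨0, Or.inl (zpow_zero c).symm⟩
  mul_mem' := by
    rintro _ _ ⟨a, rfl | rfl⟩ ⟨b, rfl | rfl⟩
    · exact ⟨a + b, Or.inl (zpow_add c a b).symm⟩
    · exact ⟨a + b, Or.inr (by rw [zpow_add, mul_assoc])⟩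
    · exact ⟨a + -b, Or.inr (by rw [mul_assoc, hinv, ← mul_assoc, zpow_add])⟩
    · exact ⟨a + -b, Or.inl (by
        rw [mul_assoc, ← mul_assoc e, hinv, mul_assoc (c ^ (-b)), he, mul_one, zpow_add])⟩
  inv_mem' := by
    rintro _ ⟨a, rfl | rfl⟩
    · exact ⟨-a, Or.inl (zpow_neg c a).symm⟩
    · exact ⟨a, Or.inr (by
        rw [mul_inv_rev, inv_eq_of_mul_eq_one_right he, ← zpow_neg, hinv, neg_neg])⟩

/-- Squares lie in `⟨c⟩` when `y` and `ι` commute up to an element of it. -/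
theorem sq_mem (hyι : ∃ k : ℤ, y * ι * y⁻¹ = c ^ k * ι) {w : L} (hw : w ∈ S) :
    ∃ b : ℤ, w * w = c ^ b := by
  obtain ⟨k, hk⟩ := hyι
  obtain ⟨a, rfl | rfl | rfl | rfl⟩ := F.cover w hw
  · exact ⟨a + a, (zpow_add c a a).symm⟩
  · exact ⟨a + -a, by rw [mul_assoc, ← mul_assoc y, F.swap, mul_assoc (c ^ (-a)), F.y_sq, mul_one,
      zpow_add]⟩
  · refine ⟨a + a, ?_⟩
    rw [(F.comm.zpow_right a).mul_mul_mul_comm, F.ι_sq, mul_one, zpow_add]
  · refine ⟨a + -a + k, ?_⟩
    calc c ^ a * (y * ι) * (c ^ a * (y * ι)) = c ^ a * y * (ι * c ^ a) * y * ι := by group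
      _ = c ^ a * y * (c ^ a * ι) * y * ι := by rw [(F.comm.zpow_right a).eq]
      _ = c ^ a * (y * c ^ a) * (ι * y * ι) := by group
      _ = c ^ a * (c ^ (-a) * y) * (ι * y * ι) := by rw [F.swap]
      _ = c ^ a * c ^ (-a) * ((y * ι * y⁻¹) * (y * y) * ι) := by group
      _ = c ^ a * c ^ (-a) * (c ^ k * (ι * ι)) := by rw [hk, F.y_sq]; group
      _ = c ^ (a + -a + k) := by rw [F.ι_sq, mul_one, zpow_add, zpow_add]

end Frame

section Simple

variable [IsSimpleGroup L]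

/-- The case `[y, ι] = u`. -/
theorem false_of_twisted (hL : ¬ IsMulCommutative L) (S : Sylow 2 L) {c y ι : L} {m : ℕ}
    (F : Frame (S : Subgroup L) c y ι m) (hm : 1 ≤ m) (hyι : y * ι * y⁻¹ = top c m * ι) : False := by
  set u := top c m with hu
  have hu2 : u * u = 1 ∧ u ≠ 1 := top_eq_one_of_lt F.c_order
  have huo : orderOf u = 2 := orderOf_eq_prime (by rw [pow_two]; exact hu2.1) hu2.2
  obtain ⟨g, hgS, hgne⟩ := exists_conj_ne hL S huo F.top_mem
  obtain ⟨h, hh, hin⟩ := exists_conj_into S F.top_central g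
  set ζ := c ^ 2 ^ (m - 1) * ι with hζdef
  have hcζ : Commute ζ c :=
    ((Commute.refl c).pow_left _).mul_left F.comm
  have hζ2 : ζ * ζ = u := by
    rw [hζdef, (F.comm.pow_right _).mul_mul_mul_comm, F.ι_sq, mul_one, ← pow_add, hu, top]
    congr 1
    rw [← two_mul, ← pow_succ']
    congr 1
    omega
  have hu2' : ((2 : ℤ) ^ (m - 1)) = ((2 ^ (m - 1) : ℕ) : ℤ) := by push_cast; rfl
  have hyζ : Commute ζ y := by
    have h1 : y * ζ * y⁻¹ = ζ := by
      have h2 : y * c ^ 2 ^ (m - 1) * y⁻¹ = (c ^ 2 ^ (m - 1))⁻¹ := by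
        rw [← _root_.conj_pow, F.inv, inv_pow]
      have h3 : u = c ^ 2 ^ (m - 1) * c ^ 2 ^ (m - 1) := by
        rw [← hζ2, hζdef, (F.comm.pow_right _).mul_mul_mul_comm, F.ι_sq, mul_one]
      rw [hζdef, show y * (c ^ 2 ^ (m - 1) * ι) * y⁻¹ =
        (y * c ^ 2 ^ (m - 1) * y⁻¹) * (y * ι * y⁻¹) by group, h2, hyι, h3]
      group
    exact (mul_inv_eq_iff_eq_mul.1 h1).symm
  have hιζ : Commute ζ ι := (F.comm.symm.pow_left _).mul_left (Commute.refl ι)
  have hζS : ζ ∈ (S : Subgroup L) := mul_mem (pow_mem F.c_mem _) F.ι_mem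
  have hζc : ∀ s ∈ (S : Subgroup L), Commute ζ s := by
    intro s hs
    obtain ⟨a, rfl | rfl | rfl | rfl⟩ := F.cover s hs
    · exact hcζ.zpow_right a
    · exact (hcζ.zpow_right a).mul_right hyζ
    · exact (hcζ.zpow_right a).mul_right hιζ
    · exact (hcζ.zpow_right a).mul_right (hyζ.mul_right hιζ)
  have hζ' := hin ζ hζS (hζc _ hgS).symm
  obtain ⟨b, hb⟩ := F.sq_mem ⟨((2 ^ m : ℕ) : ℤ), by rw [hyι, zpow_natCast]; rfl⟩ hζ'
  have hb' : c ^ b = h * u * h⁻¹ := by rw [← hb, ← hζ2]; group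
  rcases eq_top_of_sq F.c_order (a := b) (by rw [hb']; exact conj_sq h hu2.1) with e | e
  · rw [hb'] at e
    exact hu2.2 (by simpa using e)
  · rw [hb', ← hu] at e
    refine hgne ?_
    have := hh.trans e.symm
    simpa using this

/-- An involution of a Sylow 2-subgroup of order at most eight is conjugate into each four subgroup. -/
theorem line (hL : ¬ IsMulCommutative L) (S : Sylow 2 L) (hcard : Nat.card (S : Subgroup L) ≤ 8) {p q r : L}
    (hp : p ∈ (S : Subgroup L)) (hq : q ∈ (S : Subgroup L)) (hr : r ∈ (S : Subgroup L))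
    (hp2 : p * p = 1) (hq2 : q * q = 1) (hpq : Commute p q) (hp1 : p ≠ 1) (hq1 : q ≠ 1) (hpne : p ≠ q)
    (hr1 : r ≠ 1) (hrp : r ≠ p) (hrq : r ≠ q) (hrpq : r ≠ p * q) {v : L} (hv : v ∈ (S : Subgroup L))
    (hv2 : v * v = 1) (hv1 : v ≠ 1) : IsConj v p ∨ IsConj v q ∨ IsConj v (p * q) := by
  classical
  obtain ⟨-, e1, e2, e3, e4⟩ := four_rel hp2 hq2 hpq
  let Q : Subgroup L :=
    { carrier := {w | w = 1 ∨ w = p ∨ w = q ∨ w = p * q}
      one_mem' := Or.inl rfl
      mul_mem' := by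
        have h1 : q * p = p * q := hpq.symm.eq
        have h6 : p * q * (p * q) = 1 := (four_rel hp2 hq2 hpq).1
        rintro a b (rfl | rfl | rfl | rfl) (rfl | rfl | rfl | rfl) <;>
          simp [hp2, hq2, h1, e1, e2, e3, e4, h6]
      inv_mem' := by
        have h6 : p * q * (p * q) = 1 := (four_rel hp2 hq2 hpq).1
        rintro a (rfl | rfl | rfl | rfl)
        · simp
        · simp [inv_eq_of_mul_eq_one_right hp2]
        · simp [inv_eq_of_mul_eq_one_right hq2]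
        · exact Or.inr (Or.inr (Or.inr (inv_eq_of_mul_eq_one_right h6))) }
  have hQS : Q ≤ (S : Subgroup L) := by
    rintro w (rfl | rfl | rfl | rfl)
    exacts [one_mem _, hp, hq, mul_mem hp hq]
  have hQ4 : 4 ≤ Nat.card Q := by
    have hpq1 : p * q ≠ 1 := fun e => hpne (by
      rw [mul_eq_one_iff_eq_inv, inv_eq_of_mul_eq_one_right hq2] at e; exact e)
    have hsub : ({1, p, q, p * q} : Finset L) ⊆ (Set.toFinite (Q : Set L)).toFinset := by
      intro w hw
      simp only [Finset.mem_insert, Finset.mem_singleton] at hw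
      rw [Set.Finite.mem_toFinset]
      exact hw
    have h4 : ({1, p, q, p * q} : Finset L).card = 4 := by
      rw [Finset.card_insert_of_notMem, Finset.card_insert_of_notMem,
        Finset.card_insert_of_notMem, Finset.card_singleton]
      · simp only [Finset.mem_singleton]; intro e; exact hp1 (by simpa using e)
      · simp only [Finset.mem_insert, Finset.mem_singleton]
        rintro (e | e)
        · exact hpne e
        · exact hq1 (by simpa using e)
      · simp [Ne.symm hp1, Ne.symm hq1, Ne.symm hpq1]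
    rw [← h4, ← SetLike.coe_sort_coe, Nat.card_coe_set_eq, Set.ncard_eq_toFinset_card]
    exact Finset.card_le_card hsub
  have hQi : Q.relIndex (S : Subgroup L) = 2 := by
    have h1 := card_mul_index (Q.subgroupOf (S : Subgroup L))
    rw [Nat.card_congr (subgroupOfEquivOfLe hQS).toEquiv] at h1
    have h2 : Q.relIndex (S : Subgroup L) ≠ 1 := fun e => by
      rcases relIndex_eq_one.1 e hr with e | e | e | e
      exacts [hr1 e, hrp e, hrq e, hrpq e]
    show (Q.subgroupOf (S : Subgroup L)).index = 2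
    have h3 : (Q.subgroupOf (S : Subgroup L)).index ≠ 1 := h2
    have h5 : (Q.subgroupOf (S : Subgroup L)).index ≠ 0 := index_ne_zero_of_finite
    nlinarith [Nat.two_le_iff (Q.subgroupOf (S : Subgroup L)).index |>.2 ⟨h5, h3⟩]
  obtain ⟨g, hg⟩ := exists_conj_mem hL S Q hQS hQi hv2 hv
  rcases hg with e | e | e | e
  · exact absurd (by simpa using e) hv1
  · exact Or.inl (isConj_iff.2 ⟨g, e⟩)
  · exact Or.inr (Or.inl (isConj_iff.2 ⟨g, e⟩))
  · exact Or.inr (Or.inr (isConj_iff.2 ⟨g, e⟩))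

/-- The Fano plane has no 2-colouring: `u` and the six other points. -/
theorem fano {A B C A' B' C' : Prop} (h1 : ¬ A ∨ ¬ A') (h2 : ¬ B ∨ ¬ B') (h3 : ¬ C ∨ ¬ C')
    (l1 : A ∨ B ∨ C) (l2 : A ∨ B' ∨ C') (l3 : A' ∨ B ∨ C') (l4 : A' ∨ B' ∨ C)
    (m1 : ¬ A ∨ ¬ B ∨ ¬ C) (m2 : ¬ A ∨ ¬ B' ∨ ¬ C') (m3 : ¬ A' ∨ ¬ B ∨ ¬ C') (m4 : ¬ A' ∨ ¬ B' ∨ ¬ C) :
    False := by
  by_cases hA : A <;> by_cases hB : B <;> by_cases hC : C <;> by_cases hA' : A' <;>
    by_cases hB' : B' <;> simp_all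

/-- Three lines of a group of order eight cannot be met by two classes. -/
theorem false_of_central_eight (hL : ¬ IsMulCommutative L) (S : Sylow 2 L) {c y ι : L}
    (F : Frame (S : Subgroup L) c y ι 0) (hyι : Commute y ι) (hne : ¬ IsConj c ι) : False := by
  classical
  have hc2 : c * c = 1 := by
    have := pow_orderOf_eq_one c
    rwa [F.c_order, zero_add, pow_one, pow_two] at this
  have hcy : Commute c y := by
    have := F.top_y
    rwa [top, pow_zero, pow_one] at this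
  have hcι : Commute c ι := F.comm.symm
  have hcov : ∀ w ∈ (S : Subgroup L), w ∈ ({1, c, y, c * y, ι, c * ι, y * ι, c * (y * ι)} : Finset L) := by
    intro w hw
    have hca : ∀ a : ℤ, c ^ a = 1 ∨ c ^ a = c := fun a => by
      obtain ⟨q, rfl | rfl⟩ := Int.even_or_odd' a
      · left; rw [zpow_mul, zpow_two, hc2, one_zpow]
      · right; rw [zpow_add, zpow_mul, zpow_two, hc2, one_zpow, one_mul, zpow_one]
    obtain ⟨a, rfl | rfl | rfl | rfl⟩ := F.cover w hw <;> rcases hca a with e | e <;> simp [e]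
  have hcard : Nat.card (S : Subgroup L) ≤ 8 := by
    have h := Nat.card_le_card_of_injective
      (fun w : (S : Subgroup L) => (⟨(w : L), hcov _ w.2⟩ :
        ({1, c, y, c * y, ι, c * ι, y * ι, c * (y * ι)} : Finset L)))
      fun v w e => Subtype.ext (Subtype.ext_iff.1 e :)
    rw [Nat.card_eq_finsetCard] at h
    have he : ({1, c, y, c * y, ι, c * ι, y * ι, c * (y * ι)} : Finset L) =
        [1, c, y, c * y, ι, c * ι, y * ι, c * (y * ι)].toFinset := by simp
    rw [he] at h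
    exact h.trans ((List.toFinset_card_le _).trans (by simp))
  have hc1 : c ≠ 1 := fun e => by simpa [e] using F.c_order
  have hy1 : y ≠ 1 := by simpa using (F.y_out 0).1
  have hι1 : ι ≠ 1 := by simpa using F.ι_out 0
  have hιc : ι ≠ c := by simpa using F.ι_out 1
  have hyc : y ≠ c := by simpa using (F.y_out 1).1
  have hyi : y ≠ ι := by simpa using (F.y_out 0).2
  have hyci : y ≠ c * ι := by simpa using (F.y_out 1).2
  have hcS := F.c_mem
  have hyS := F.y_mem
  have hιS := F.ι_mem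
  have hcy2 := (four_rel hc2 F.y_sq hcy).1
  have hci2 := (four_rel hc2 F.ι_sq hcι).1
  have hyi2 := (four_rel F.y_sq F.ι_sq hyι).1
  have hcyi2 := (four_rel hc2 hyi2 (hcy.mul_right hcι)).1
  have key : ∀ p q r : L, p ∈ (S : Subgroup L) → q ∈ (S : Subgroup L) → r ∈ (S : Subgroup L) →
      p * p = 1 → q * q = 1 → Commute p q → p ≠ 1 → q ≠ 1 → p ≠ q →
      r ≠ 1 → r ≠ p → r ≠ q → r ≠ p * q →
      (IsConj c p ∨ IsConj c q ∨ IsConj c (p * q)) ∧
        (¬ IsConj c p ∨ ¬ IsConj c q ∨ ¬ IsConj c (p * q)) := by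
    intro p q r hp hq hr h1 h2 h3 h4 h5 h6 h7 h8 h9 h10
    refine ⟨line hL S hcard hp hq hr h1 h2 h3 h4 h5 h6 h7 h8 h9 h10 hcS hc2 hc1, ?_⟩
    rcases line hL S hcard hp hq hr h1 h2 h3 h4 h5 h6 h7 h8 h9 h10 hιS F.ι_sq hι1 with e | e | e
    · exact Or.inl fun e' => hne (e'.trans e.symm)
    · exact Or.inr (Or.inl fun e' => hne (e'.trans e.symm))
    · exact Or.inr (Or.inr fun e' => hne (e'.trans e.symm))
  have L1 := key c ι y hcS hιS hyS hc2 F.ι_sq hcι hc1 hι1 hιc.symm hy1 hyc hyi hyci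
  have L2 := key c y ι hcS hyS hιS hc2 F.y_sq hcy hc1 hy1 hyc.symm hι1 hιc hyi.symm
    (fun e => hyci (by rw [e, ← mul_assoc, hc2, one_mul]))
  have L3 := key c (y * ι) ι hcS (mul_mem hyS hιS) hιS hc2 hyi2 (hcy.mul_right hcι) hc1
    (fun e => hyi (by rw [mul_eq_one_iff_eq_inv, inv_eq_of_mul_eq_one_right F.ι_sq] at e; exact e))
    (fun e => hyci (by rw [e, mul_assoc, F.ι_sq, mul_one]))
    hι1 hιc (fun e => hy1 (by simpa using e.symm))
    (fun e => hyc (by
      have h' : c * y = 1 := mul_right_cancel (b := ι) (by rw [one_mul, mul_assoc]; exact e.symm)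
      rw [mul_eq_one_iff_inv_eq, inv_eq_of_mul_eq_one_right hc2] at h'
      exact h'.symm))
  have L4 := key ι y c hιS hyS hcS F.ι_sq F.y_sq hyι.symm hι1 hy1 hyi.symm hc1 hιc.symm hyc.symm
    (fun e => hyci (by rw [e, hyι.symm.eq, mul_assoc, F.ι_sq, mul_one]))
  have L5 := key ι (c * y) c hιS (mul_mem hcS hyS) hcS F.ι_sq hcy2 (hcι.symm.mul_right hyι.symm) hι1
    (fun e => hyc (by
      rw [mul_eq_one_iff_inv_eq, inv_eq_of_mul_eq_one_right hc2] at e; exact e.symm))
    (fun e => hyci (by rw [e, ← mul_assoc, hc2, one_mul])) hc1 hιc.symm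
    (fun e => hy1 (by simpa using e.symm))
    (fun e => hyi (by
      rw [hcι.symm.left_comm] at e
      have h' : ι * y = 1 := mul_left_cancel (a := c) (by rw [mul_one]; exact e.symm)
      rw [mul_eq_one_iff_inv_eq, inv_eq_of_mul_eq_one_right F.ι_sq] at h'
      exact h'.symm))
  have L6 := key (c * ι) y c (mul_mem hcS hιS) hyS hcS hci2 F.y_sq (hcy.mul_left hyι.symm)
    (fun e => hιc (by
      rw [mul_eq_one_iff_inv_eq, inv_eq_of_mul_eq_one_right hc2] at e; exact e.symm))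
    hy1 hyci.symm hc1 (fun e => hι1 (by simpa using e.symm)) hyc.symm
    (fun e => hyi (by
      have h' : ι * y = 1 := mul_left_cancel (a := c) (by rw [mul_one, ← mul_assoc]; exact e.symm)
      rw [mul_eq_one_iff_inv_eq, inv_eq_of_mul_eq_one_right F.ι_sq] at h'
      exact h'.symm))
  have L7 := key (c * ι) (c * y) c (mul_mem hcS hιS) (mul_mem hcS hyS) hcS hci2 hcy2
    ((((Commute.refl c).mul_right hcy).mul_left ((hcι.symm).mul_right hyι.symm)))
    (fun e => hιc (by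
      rw [mul_eq_one_iff_inv_eq, inv_eq_of_mul_eq_one_right hc2] at e; exact e.symm))
    (fun e => hyc (by
      rw [mul_eq_one_iff_inv_eq, inv_eq_of_mul_eq_one_right hc2] at e; exact e.symm))
    (fun e => hyi (mul_left_cancel e).symm) hc1 (fun e => hι1 (by simpa using e.symm))
    (fun e => hy1 (by simpa using e.symm))
    (fun e => hyci (by
      rw [hcι.symm.mul_mul_mul_comm, hc2, one_mul] at e
      rw [e, hyι.symm.eq, mul_assoc, F.ι_sq, mul_one]))
  have hcc : IsConj c c := IsConj.refl c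
  have n1 : c * (c * y) = y := by rw [← mul_assoc, hc2, one_mul]
  have n2 : c * ι * (c * y) = y * ι := by
    rw [hcι.symm.mul_mul_mul_comm, hc2, one_mul, hyι.symm.eq]
  have n3 : ι * (c * y) = c * (y * ι) := by rw [hcι.symm.left_comm, hyι.symm.eq]
  have n4 : c * ι * y = c * (y * ι) := by rw [mul_assoc, hyι.symm.eq]
  rw [hyι.symm.eq] at L4
  rw [n3] at L5
  rw [n4] at L6
  rw [n2] at L7
  exact fano (A := IsConj c ι) (A' := IsConj c (c * ι)) (B := IsConj c y) (B' := IsConj c (c * y))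
    (C := IsConj c (y * ι)) (C' := IsConj c (c * (y * ι)))
    (L1.2.resolve_left (not_not_intro hcc)) (L2.2.resolve_left (not_not_intro hcc))
    (L3.2.resolve_left (not_not_intro hcc)) L4.1 L5.1 L6.1 L7.1 L4.2 L5.2 L6.2 L7.2

/-- The involutions in the two cosets outside `⟨c, ι⟩` miss the class of `u`. -/
theorem coset_classes (hL : ¬ IsMulCommutative L) (S : Sylow 2 L) {c y ι e : L} {m : ℕ}
    (F : Frame (S : Subgroup L) c y ι m) (he : e * e = 1) (heS : e ∈ (S : Subgroup L))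
    (hinv : ∀ a : ℤ, e * c ^ a = c ^ (-a) * e) (hιe : ∀ a : ℤ, ι ≠ c ^ a * e)
    (hcov : ∀ w ∈ (S : Subgroup L), ∃ a : ℤ, w = c ^ a ∨ w = c ^ a * e ∨ w * ι = c ^ a ∨ w * ι = c ^ a * e)
    (hne : ¬ IsConj (top c m) ι) (hne' : ¬ IsConj (top c m) (top c m * ι))
    (hιι : ¬ IsConj ι (top c m * ι)) :
    ∀ a : ℤ, ¬ IsConj (top c m) (c ^ a * e) := by
  set u := top c m with hu
  have hu2 : u * u = 1 ∧ u ≠ 1 := top_eq_one_of_lt F.c_order
  set Q := Frame.half (c := c) he hinv with hQdef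
  have hQmem : ∀ {w : L}, w ∈ Q ↔ ∃ a : ℤ, w = c ^ a ∨ w = c ^ a * e := Iff.rfl
  have hQS : Q ≤ (S : Subgroup L) := by
    intro w hw
    obtain ⟨a, rfl | rfl⟩ := hQmem.1 hw
    exacts [zpow_mem F.c_mem a, mul_mem (zpow_mem F.c_mem a) heS]
  have hιQ : ι ∉ Q := by
    intro hh
    obtain ⟨a, h | h⟩ := hQmem.1 hh
    exacts [F.ι_out a h, hιe a h]
  have hQi : Q.relIndex (S : Subgroup L) = 2 := by
    show (Q.subgroupOf (S : Subgroup L)).index = 2
    refine index_eq_two_iff.2 ⟨⟨ι, F.ι_mem⟩, fun b => ?_⟩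
    simp only [mem_subgroupOf, coe_mul]
    by_cases hb : (b : L) ∈ Q
    · exact Or.inr ⟨hb, fun h => hιQ ((mul_mem_cancel_left hb).1 h)⟩
    · refine Or.inl ⟨?_, hb⟩
      obtain ⟨a, h | h | h | h⟩ := hcov b b.2
      · exact absurd (hQmem.2 ⟨a, Or.inl h⟩) hb
      · exact absurd (hQmem.2 ⟨a, Or.inr h⟩) hb
      · exact hQmem.2 ⟨a, Or.inl h⟩
      · exact hQmem.2 ⟨a, Or.inr h⟩
  have hcls : ∀ a : ℤ, IsConj e (c ^ a * e) ∨ IsConj (c * e) (c ^ a * e) := by
    intro a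
    have hk : ∀ (k b : ℤ), c ^ k * (c ^ b * e) * (c ^ k)⁻¹ = c ^ (b + 2 * k) * e := fun k b => by
      rw [← zpow_neg c k, show c ^ k * (c ^ b * e) * c ^ (-k) = c ^ k * c ^ b * (e * c ^ (-k)) by group,
        hinv, neg_neg, ← mul_assoc, ← zpow_add, ← zpow_add, show k + b + k = b + 2 * k by ring]
    obtain ⟨k, rfl | rfl⟩ := Int.even_or_odd' a
    · exact Or.inl (isConj_iff.2 ⟨c ^ k, by simpa using hk k 0⟩)
    · refine Or.inr (isConj_iff.2 ⟨c ^ k, ?_⟩)
      have := hk k 1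
      rwa [zpow_one, add_comm 1 (2 * k)] at this
  have hrep : ∀ v : L, v ∈ (S : Subgroup L) → v * v = 1 → v ≠ 1 → ¬ IsConj u v →
      IsConj v e ∨ IsConj v (c * e) := by
    intro v hv hv2 hv1 hvu
    obtain ⟨g, hg⟩ := exists_conj_mem hL S Q hQS hQi hv2 hv
    obtain ⟨a, h | h⟩ := hQmem.1 hg
    · exfalso
      rcases eq_top_of_sq F.c_order (a := a) (by rw [← h]; exact conj_sq g hv2) with h1 | h1
      · rw [← h] at h1; exact hv1 (by simpa using h1)
      · exact hvu (isConj_iff.2 ⟨g, h.trans h1⟩).symm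
    · rcases hcls a with h1 | h1
      · exact Or.inl ((isConj_iff.2 ⟨g, h⟩).trans h1.symm)
      · exact Or.inr ((isConj_iff.2 ⟨g, h⟩).trans h1.symm)
  have hcu : Commute u ι := F.comm.symm.pow_left _
  have hι1 : ι ≠ 1 := by simpa using F.ι_out 0
  have huι : u * ι ≠ 1 := fun h => F.ι_out (-((2 ^ m : ℕ) : ℤ)) (by
    rw [mul_eq_one_iff_inv_eq] at h
    rw [← h, hu, top, zpow_neg, zpow_natCast])
  have h1 := hrep ι F.ι_mem F.ι_sq hι1 hne
  have h2 := hrep (u * ι) (mul_mem F.top_mem F.ι_mem) (four_rel hu2.1 F.ι_sq hcu).1 huι hne'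
  have hboth : ¬ IsConj u e ∧ ¬ IsConj u (c * e) := by
    rcases h1 with a | a <;> rcases h2 with b | b
    · exact absurd (a.trans b.symm) hιι
    · exact ⟨fun h => hne (h.trans a.symm), fun h => hne' (h.trans b.symm)⟩
    · exact ⟨fun h => hne' (h.trans b.symm), fun h => hne (h.trans a.symm)⟩
    · exact absurd (a.trans b.symm) hιι
  intro a hh
  rcases hcls a with h | h
  · exact hboth.1 (hh.trans h.symm)
  · exact hboth.2 (hh.trans h.symm)

/-- The case `[y, ι] = 1`. -/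
theorem false_of_central (hL : ¬ IsMulCommutative L) (S : Sylow 2 L) {c y ι : L} {m : ℕ}
    (F : Frame (S : Subgroup L) c y ι m) (hyι : Commute y ι) (hne : ¬ IsConj (top c m) ι) : False := by
  haveI : Fact (Nat.Prime 2) := ⟨Nat.prime_two⟩
  rcases Nat.eq_zero_or_pos m with rfl | hm
  · exact false_of_central_eight hL S F hyι (by simpa [top] using hne)
  set u := top c m with hu
  have hu2 : u * u = 1 ∧ u ≠ 1 := top_eq_one_of_lt F.c_order
  have hyι' : y * ι * y⁻¹ = c ^ (0 : ℤ) * ι := by rw [hyι.eq, mul_inv_cancel_right, zpow_zero, one_mul]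
  have hιc : ∀ s ∈ (S : Subgroup L), Commute ι s := by
    intro s hs
    obtain ⟨a, rfl | rfl | rfl | rfl⟩ := F.cover s hs
    · exact F.comm.zpow_right a
    · exact (F.comm.zpow_right a).mul_right hyι.symm
    · exact (F.comm.zpow_right a).mul_right (Commute.refl ι)
    · exact (F.comm.zpow_right a).mul_right (hyι.symm.mul_right (Commute.refl ι))
  have huιS : u * ι ∈ (S : Subgroup L) := mul_mem F.top_mem F.ι_mem
  have huc : ∀ s ∈ (S : Subgroup L), Commute u s := F.top_central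
  have huιc : ∀ s ∈ (S : Subgroup L), Commute (u * ι) s := fun s hs => (huc s hs).mul_left (hιc s hs)
  have hfix : ∀ n ∈ normalizer ((S : Subgroup L) : Set L), n * u * n⁻¹ = u := by
    intro n hn
    set d := c ^ 2 ^ (m - 1) with hd
    have hdd : d * d = u := by
      rw [hd, ← pow_add, hu, top]
      congr 1
      rw [← two_mul, ← pow_succ']
      congr 1
      omega
    have hdS : n * d * n⁻¹ ∈ (S : Subgroup L) := ((mem_normalizer_iff.1 hn) d).1 (pow_mem F.c_mem _)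
    obtain ⟨b, hb⟩ := F.sq_mem ⟨0, hyι'⟩ hdS
    have hb' : c ^ b = n * u * n⁻¹ := by rw [← hb, ← hdd]; group
    rcases eq_top_of_sq F.c_order (a := b) (by rw [hb']; exact conj_sq n hu2.1) with h | h
    · rw [hb'] at h; exact absurd (by simpa using h) hu2.2
    · rw [← hb', h]
  have hburn : ∀ v w : L, (∀ s ∈ (S : Subgroup L), Commute v s) → (∀ s ∈ (S : Subgroup L), Commute w s) →
      IsConj v w → ∃ n ∈ normalizer ((S : Subgroup L) : Set L), n * v * n⁻¹ = w := by
    intro v w hv hw hvw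
    obtain ⟨g, hg⟩ := isConj_iff.1 hvw
    obtain ⟨n, hn, h⟩ := S.conj_eq_normalizer_conj_of_mem_centralizer v g⁻¹
      (mem_centralizer_iff.2 fun s hs => (hv s hs).symm.eq)
      (by rw [inv_inv, hg]; exact mem_centralizer_iff.2 fun s hs => (hw s hs).symm.eq)
    refine ⟨n⁻¹, inv_mem hn, ?_⟩
    rw [inv_inv] at h ⊢
    rw [← h, hg]
  have hne' : ¬ IsConj u (u * ι) := fun h => by
    obtain ⟨n, hn, hnu⟩ := hburn _ _ huc huιc h
    rw [hfix n hn] at hnu
    have hι1 : ι = 1 := by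
      have h' := congrArg (fun z => u * z) hnu
      simp only [← mul_assoc, hu2.1, one_mul] at h'
      exact h'.symm
    exact (by simpa using F.ι_out 0 : ι ≠ 1) hι1
  have hιι : ¬ IsConj ι (u * ι) := fun h => by
    obtain ⟨n, hn, hnι⟩ := hburn _ _ hιc huιc h
    refine false_of_swap S hn hιc hnι ?_ ?_
    · rw [show n * (u * ι) * n⁻¹ = (n * u * n⁻¹) * (n * ι * n⁻¹) by group, hfix n hn, hnι, ← mul_assoc,
        hu2.1, one_mul]
    · intro e
      exact hu2.2 (by simpa using e.symm)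
  have hinv1 : ∀ a : ℤ, y * c ^ a = c ^ (-a) * y := F.swap
  have hinv2 : ∀ a : ℤ, y * ι * c ^ a = c ^ (-a) * (y * ι) := fun a => by
    rw [mul_assoc, (F.comm.zpow_right a).eq, ← mul_assoc, F.swap, mul_assoc]
  have hy := coset_classes hL S F F.y_sq F.y_mem hinv1
    (fun a h => (F.y_out (-a)).2 (by rw [h, ← mul_assoc, ← zpow_add, neg_add_cancel, zpow_zero, one_mul]))
    (fun w hw => by
      obtain ⟨a, rfl | rfl | rfl | rfl⟩ := F.cover w hw
      · exact ⟨a, Or.inl rfl⟩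
      · exact ⟨a, Or.inr (Or.inl rfl)⟩
      · exact ⟨a, Or.inr (Or.inr (Or.inl (by rw [mul_assoc, F.ι_sq, mul_one])))⟩
      · exact ⟨a, Or.inr (Or.inr (Or.inr (by rw [mul_assoc, mul_assoc, F.ι_sq, mul_one])))⟩)
    hne hne' hιι
  have hyi := coset_classes hL S F (four_rel F.y_sq F.ι_sq hyι).1 (mul_mem F.y_mem F.ι_mem) hinv2
    (fun a h => (F.y_out (-a)).1 (by
      have h' : (1 : L) = c ^ a * y := mul_right_cancel (b := ι) (by rw [one_mul, mul_assoc]; exact h)
      rw [eq_comm, mul_eq_one_iff_inv_eq, ← zpow_neg] at h'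
      exact h'.symm))
    (fun w hw => by
      obtain ⟨a, rfl | rfl | rfl | rfl⟩ := F.cover w hw
      · exact ⟨a, Or.inl rfl⟩
      · exact ⟨a, Or.inr (Or.inr (Or.inr (by rw [mul_assoc])))⟩
      · exact ⟨a, Or.inr (Or.inr (Or.inl (by rw [mul_assoc, F.ι_sq, mul_one])))⟩
      · exact ⟨a, Or.inr (Or.inl rfl)⟩)
    hne hne' hιι
  have huo : orderOf u = 2 := orderOf_eq_prime (by rw [pow_two]; exact hu2.1) hu2.2
  obtain ⟨g, hgS, hgne⟩ := exists_conj_ne hL S huo F.top_mem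
  have hconj : IsConj u (g * u * g⁻¹) := isConj_iff.2 ⟨g, rfl⟩
  have hg2 : g * u * g⁻¹ * (g * u * g⁻¹) = 1 := conj_sq g hu2.1
  obtain ⟨a, h | h | h | h⟩ := F.cover _ hgS
  · rw [h] at hg2 hgne
    rcases eq_top_of_sq F.c_order hg2 with h1 | h1
    · exact hu2.2 (by rw [h1] at h; simpa using h)
    · exact hgne h1
  · exact hy a (h ▸ hconj)
  · rw [h] at hg2 hconj
    rw [(F.comm.zpow_right a).mul_mul_mul_comm, F.ι_sq, mul_one] at hg2
    rcases eq_top_of_sq F.c_order hg2 with h1 | h1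
    · rw [h1, one_mul] at hconj; exact hne hconj
    · rw [h1] at hconj; exact hne' hconj
  · exact hyi a (h ▸ hconj)

end Simple

end Cfsg.Agent.CyclicTimesZ
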