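import Cfsg.Agent.Lib.CyclicTimesZ.TwoGroup
import Cfsg.Agent.Lib.RankTwoSimple.Basic
import Cfsg.Agent.S0205
import Cfsg.Agent.Lib.Transfer.Thompson
import Mathlib.GroupTheory.SpecificGroups.KleinFour

/-!
# A simple group with at most three involutions in a Sylow 2-subgroup

If the Sylow 2-subgroup `S` of a nonabelian simple group has a metacyclic subgroup of index at most two and at
most three involutions, then it is a four group.
-/

set_option autoImplicit false
set_option linter.unusedSectionVars false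
set_option linter.style.haveILetI false

namespace Cfsg.Agent.CyclicTimesZ

open Subgroup

universe u

variable {L : Type u} [Group L] [Finite L] [IsSimpleGroup L]

/-- A nonabelian simple group has even order. -/
theorem two_dvd_card (hL : ¬ IsMulCommutative L) : 2 ∣ Nat.card L := by
  by_contra h
  haveI := S0205.result (G := L) (Nat.not_even_iff_odd.1 fun he => h he.two_dvd)
  exact hL ⟨⟨IsSimpleGroup.comm_iff_isSolvable.2 inferInstance⟩⟩

/-- No involution of a nonabelian simple group is alone in its class in a Sylow 2-subgroup. -/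
theorem exists_conj_ne (hL : ¬ IsMulCommutative L) (S : Sylow 2 L) {z : L} (hz : orderOf z = 2)
    (hzS : z ∈ (S : Subgroup L)) :
    ∃ g : L, g * z * g⁻¹ ∈ (S : Subgroup L) ∧ g * z * g⁻¹ ≠ z := by
  by_contra h
  push Not at h
  exact RankTwoSimple.not_isolated hL z (ZStar.isolated_of_sylow hz hzS h)

theorem sq_of_orderOf_two {G : Type*} [Group G] {z : G} (hz : orderOf z = 2) : z * z = 1 ∧ z ≠ 1 := by
  refine ⟨?_, fun h => by simp [h] at hz⟩
  have := pow_orderOf_eq_one z
  rwa [hz, pow_two] at this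

theorem conj_sq {G : Type*} [Group G] {z : G} (s : G) (hz : z * z = 1) :
    s * z * s⁻¹ * (s * z * s⁻¹) = 1 := by
  rw [show s * z * s⁻¹ * (s * z * s⁻¹) = s * (z * z) * s⁻¹ by group, hz, mul_one, mul_inv_cancel]

/-- A two-element set of generators of a four group: the relations. -/
theorem four_rel {G : Type*} [Group G] {z y : G} (hz : z * z = 1) (hy : y * y = 1)
    (hc : Commute z y) :
    (z * y) * (z * y) = 1 ∧ z * (z * y) = y ∧ (z * y) * z = y ∧ y * (z * y) = z ∧ (z * y) * y = z := by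
  refine ⟨?_, ?_, ?_, ?_, ?_⟩
  · calc z * y * (z * y) = z * (y * z) * y := by group
      _ = z * (z * y) * y := by rw [hc.eq]
      _ = (z * z) * (y * y) := by group
      _ = 1 := by rw [hz, hy, one_mul]
  · rw [← mul_assoc, hz, one_mul]
  · rw [mul_assoc, ← hc.eq, ← mul_assoc, hz, one_mul]
  · rw [← mul_assoc, ← hc.eq, mul_assoc, hy, mul_one]
  · rw [mul_assoc, hy, mul_one]

/-- If at most three involutions lie in `S`, then those of a four group in `S` exhaust them. -/
theorem exhaust {G : Type*} [Group G] {S : Subgroup G} {u v z y : G}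
    (hinv : ∀ w ∈ S, w * w = 1 → w = 1 ∨ w = u ∨ w = v ∨ w = u * v) (hz : z ∈ S) (hy : y ∈ S)
    (hz2 : z * z = 1) (hy2 : y * y = 1) (hc : Commute z y) (hz1 : z ≠ 1) (hy1 : y ≠ 1) (hne : z ≠ y) :
    ∀ w ∈ S, w * w = 1 → w = 1 ∨ w = z ∨ w = y ∨ w = z * y := by
  classical
  have h3 := (four_rel hz2 hy2 hc).1
  have hzy1 : z * y ≠ 1 := fun h => hne (by
    rw [mul_eq_one_iff_eq_inv, inv_eq_of_mul_eq_one_right hy2] at h; exact h)
  set A : Finset G := {z, y, z * y} with hA
  set B : Finset G := {u, v, u * v} with hB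
  have hAc : A.card = 3 := by
    rw [hA, Finset.card_insert_of_notMem, Finset.card_insert_of_notMem, Finset.card_singleton]
    · simp only [Finset.mem_singleton]
      intro h; exact hz1 (by simpa using h)
    · simp only [Finset.mem_insert, Finset.mem_singleton]
      rintro (h | h)
      · exact hne h
      · exact hy1 (by simpa using h)
  have hAB : A ⊆ B := by
    intro w hw
    simp only [hA, Finset.mem_insert, Finset.mem_singleton] at hw
    rcases hw with rfl | rfl | rfl
    · exact (hB ▸ by simpa using (hinv _ hz hz2).resolve_left hz1)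
    · exact (hB ▸ by simpa using (hinv _ hy hy2).resolve_left hy1)
    · exact (hB ▸ by simpa using (hinv _ (mul_mem hz hy) h3).resolve_left hzy1)
  have hEq : A = B := Finset.eq_of_subset_of_card_le hAB (by rw [hAc, hB]; exact Finset.card_le_three)
  intro w hw hw2
  rcases hinv w hw hw2 with h | h
  · exact Or.inl h
  · have : w ∈ A := by rw [hEq, hB]; simpa using h
    exact Or.inr (by simpa [hA] using this)

/-- An element normalizing `T` and permuting the involutions `z, y, zy` cyclically gives an automorphism of order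
three without fixed involutions. -/
theorem exists_rotation {T : Subgroup L} (hT : IsPGroup 2 T) {H : Subgroup T}
    (hHm : Cfsg.IsMetacyclic ↥H) (hH : ∀ x y, x ∉ H → y ∉ H → x * y ∈ H) {z y n : L} (hzT : z ∈ T)
    (hyT : y ∈ T) (hz2 : z * z = 1) (hy2 : y * y = 1) (hc : Commute z y) (hy1 : y ≠ 1) (hz1 : z ≠ 1)
    (hne : z ≠ y) (hn : n ∈ normalizer (T : Set L)) (h1 : n * y * n⁻¹ = z)
    (h2 : n * z * n⁻¹ = z * y) :
    ∃ α : MulAut T, α ^ 3 = 1 ∧ α ⟨z, hzT⟩ ≠ ⟨z, hzT⟩ ∧ α ⟨y, hyT⟩ ≠ ⟨y, hyT⟩ ∧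
      α ⟨z * y, mul_mem hzT hyT⟩ ≠ ⟨z * y, mul_mem hzT hyT⟩ := by
  obtain ⟨hzy2, e1, e2, e3, e4⟩ := four_rel hz2 hy2 hc
  set β : MulAut T := normalizerMonoidHom T ⟨n, hn⟩ with hβ
  have hβv : ∀ t : T, ((β t : T) : L) = n * t * n⁻¹ := fun t => by simp [hβ]
  set Z : T := ⟨z, hzT⟩
  set Y : T := ⟨y, hyT⟩
  set W : T := ⟨z * y, mul_mem hzT hyT⟩
  have bY : β Y = Z := Subtype.ext ((hβv Y).trans h1)
  have bZ : β Z = W := Subtype.ext ((hβv Z).trans h2)
  have bW : β W = Y := Subtype.ext (by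
    rw [hβv]
    show n * (z * y) * n⁻¹ = y
    rw [show n * (z * y) * n⁻¹ = (n * z * n⁻¹) * (n * y * n⁻¹) by group, h1, h2, e2])
  haveI : Finite (MulAut T) :=
    Finite.of_injective (fun b : MulAut T => (b : T → T)) DFunLike.coe_injective
  obtain ⟨b, r, hr, ho⟩ := Nat.exists_eq_pow_mul_and_not_dvd (orderOf_pos β).ne' 3 (by norm_num)
  have hα : (β ^ r) ^ 3 ^ b = 1 := by rw [← pow_mul, mul_comm, ← ho, pow_orderOf_eq_one]
  have hper : ∀ k : ℕ, (β ^ (3 * k)) Z = Z ∧ (β ^ (3 * k)) Y = Y ∧ (β ^ (3 * k)) W = W := by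
    intro k
    induction k with
    | zero => simp
    | succ k ih =>
      obtain ⟨i1, i2, i3⟩ := ih
      rw [show 3 * (k + 1) = 3 + 3 * k by ring, pow_add, MulAut.mul_apply, MulAut.mul_apply,
        MulAut.mul_apply, i1, i2, i3]
      simp only [pow_succ, pow_zero, one_mul, MulAut.mul_apply]
      rw [bZ, bW, bY, bZ, bW]
      exact ⟨rfl, rfl, rfl⟩
  have hZY : Z ≠ Y := fun h => hne (congrArg Subtype.val h)
  have hZW : Z ≠ W := fun h => hy1 (by simpa [Z, W] using congrArg Subtype.val h)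
  have hYW : Y ≠ W := fun h => hz1 (by simpa [Y, W] using congrArg Subtype.val h)
  refine ⟨β ^ r, cube_eq_one hT hHm hH hα, ?_⟩
  have hmod : r % 3 = 1 ∨ r % 3 = 2 := by omega
  rcases hmod with h | h
  · rw [show r = 1 + 3 * (r / 3) by omega, pow_add, pow_one]
    simp only [MulAut.mul_apply, (hper _).1, (hper _).2.1, (hper _).2.2, bZ, bY, bW]
    exact ⟨hZW.symm, hZY, hYW⟩
  · rw [show r = 2 + 3 * (r / 3) by omega, pow_add, pow_two]
    simp only [MulAut.mul_apply, (hper _).1, (hper _).2.1, (hper _).2.2, bZ, bY, bW]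
    exact ⟨hZY.symm, hYW.symm, hZW⟩

/-- A 2-group with exactly three involutions, permuted transitively, is homocyclic of rank two. -/
theorem homocyclic_of_rotation {T : Type*} [Group T] [Finite T] (hT : IsPGroup 2 T) {H : Subgroup T}
    (hHm : Cfsg.IsMetacyclic ↥H) (hH : ∀ x y, x ∉ H → y ∉ H → x * y ∈ H) {α : MulAut T}
    (hα3 : α ^ 3 = 1) {z y : T} (hy1 : y ≠ 1) (hy2 : y * y = 1)
    (hinv : ∀ w : T, w * w = 1 → w = 1 ∨ w = z ∨ w = y ∨ w = z * y)
    (hmz : α z ≠ z) (hmy : α y ≠ y) (hmw : α (z * y) ≠ z * y) :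
    ∃ (j : ℕ) (p : T), orderOf p = 2 ^ (j + 1) ∧ top p j = y ∧
      (∀ a b : T, a * b = b * a) ∧ Nat.card T = (2 ^ (j + 1)) ^ 2 := by
  have hmove : ∀ w : T, w * w = 1 → α w = w → w = 1 := by
    intro w hw hfix
    rcases hinv w hw with rfl | rfl | rfl | rfl
    exacts [rfl, absurd hfix hmz, absurd hfix hmy, absurd hfix hmw]
  have hα1 : α ≠ 1 := fun h => hmy (by rw [h]; rfl)
  obtain ⟨Q, w, -, -, -, hw, htop, hs⟩ := Bicyclic2.exists_shape hT hα3 hα1 hHm hH
  have hw1 : w = 1 := by
    by_contra hw1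
    obtain ⟨k, hk⟩ := hT w
    obtain ⟨m, -, hm⟩ := (Nat.dvd_prime_pow Nat.prime_two).1 (orderOf_dvd_of_pow_eq_one hk)
    cases m with
    | zero => exact hw1 (orderOf_eq_one_iff.1 (by rw [hm, pow_zero]))
    | succ m =>
      exact (top_eq_one_of_lt hm).2 (hmove _ (top_eq_one_of_lt hm).1 (by rw [top, map_pow, hw]))
  rw [hw1, zpowers_one_eq_bot, sup_bot_eq] at htop
  rcases hs with ⟨u, hu⟩ | ⟨i, z₀, hq⟩
  swap
  · exact absurd (hmove z₀ hq.zz hq.zfix) hq.ne
  obtain ⟨p, -, hQ⟩ := hu.gen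
  have hab : ∀ a b : T, a * b = b * a := fun a b =>
    hu.comm a (by rw [htop]; exact mem_top _) b (by rw [htop]; exact mem_top _)
  have hp1 : p ≠ 1 := fun h => by
    have hmem : y ∈ Q := by rw [htop]; exact mem_top _
    rw [hQ, h, map_one] at hmem
    simp [Subgroup.closure_singleton_one] at hmem
    exact hy1 hmem
  obtain ⟨k, hk⟩ := hT p
  obtain ⟨m, -, hm⟩ := (Nat.dvd_prime_pow Nat.prime_two).1 (orderOf_dvd_of_pow_eq_one hk)
  cases m with
  | zero => exact absurd (orderOf_eq_one_iff.1 (by rw [hm, pow_zero])) hp1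
  | succ j =>
  have hm' : orderOf (α p) = 2 ^ (j + 1) := by rw [MulEquiv.orderOf_eq, hm]
  have hne : top p j ≠ top (α p) j := fun h => (top_eq_one_of_lt hm).2
    (hmove _ (top_eq_one_of_lt hm).1 (by rw [top, map_pow]; exact h.symm))
  obtain ⟨φ, hφi, hφ⟩ := pair_hom hm hm' hne (hab _ _)
  have hsurj : Function.Surjective φ := by
    rw [← MonoidHom.range_eq_top, eq_top_iff, ← htop, hQ, closure_le]
    rintro t (rfl | rfl)
    · simpa using hφ 1 0
    · simpa using hφ 0 1
  have hcard : Nat.card T = (2 ^ (j + 1)) ^ 2 := by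
    rw [← Nat.card_congr (Equiv.ofBijective φ ⟨hφi, hsurj⟩), Nat.card_congr Multiplicative.toAdd,
      Nat.card_prod, Nat.card_zmod, pow_two]
  have htp : top p j = z ∨ top p j = y ∨ top p j = z * y :=
    (hinv _ (top_eq_one_of_lt hm).1).resolve_left (top_eq_one_of_lt hm).2
  have hor : ∀ q : T, q = p ∨ q = α p ∨ q = α (α p) → orderOf q = 2 ^ (j + 1) := by
    rintro q (rfl | rfl | rfl)
    · exact hm
    · exact hm'
    · rw [MulEquiv.orderOf_eq, hm']
  have hall : ∃ q : T, (q = p ∨ q = α p ∨ q = α (α p)) ∧ top q j = y := by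
    by_contra hno
    push Not at hno
    have e0 := hno p (Or.inl rfl)
    have e1 := hno (α p) (Or.inr (Or.inl rfl))
    have e2 := hno (α (α p)) (Or.inr (Or.inr rfl))
    have s1 : ∀ q : T, orderOf q = 2 ^ (j + 1) → top q j ≠ y → top q j = z ∨ top q j = z * y := by
      intro q hq hqy
      rcases (hinv _ (top_eq_one_of_lt hq).1).resolve_left (top_eq_one_of_lt hq).2 with h | h | h
      exacts [Or.inl h, absurd h hqy, Or.inr h]
    have n01 : top (α p) j ≠ top p j := hne.symm
    have n12 : top (α (α p)) j ≠ top (α p) j := fun h => hne (by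
      simp only [top, ← map_pow] at h ⊢
      exact (α.injective h).symm)
    have n02 : top (α (α p)) j ≠ top p j := fun h => hne (by
      simp only [top, ← map_pow] at h ⊢
      have h3 : α (α (α (p ^ 2 ^ j))) = p ^ 2 ^ j := Bicyclic2.alpha_three hα3 _
      rw [h] at h3
      exact h3.symm)
    rcases s1 p hm e0 with a | a <;> rcases s1 _ hm' e1 with b | b <;>
      rcases s1 _ (hor _ (Or.inr (Or.inr rfl))) e2 with c | c <;>
      first
        | exact n01 (b.trans a.symm)
        | exact n12 (c.trans b.symm)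
        | exact n02 (c.trans a.symm)
  obtain ⟨q, hq, hqy⟩ := hall
  exact ⟨j, q, hor q hq, hqy, hab, hcard⟩

/-- **Three involutions**: the Sylow 2-subgroup is a four group. -/
theorem four_of_few_involutions (hL : ¬ IsMulCommutative L) (S : Sylow 2 L)
    {H : Subgroup (S : Subgroup L)} (hHm : Cfsg.IsMetacyclic ↥H)
    (hH : ∀ x y, x ∉ H → y ∉ H → x * y ∈ H) {u v : L}
    (hinv : ∀ w ∈ (S : Subgroup L), w * w = 1 → w = 1 ∨ w = u ∨ w = v ∨ w = u * v) :
    Nonempty ((S : Subgroup L) ≃* DihedralGroup 2) := by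
  classical
  haveI : Fact (Nat.Prime 2) := ⟨Nat.prime_two⟩
  have heven := two_dvd_card hL
  have hne : (⊤ : Subgroup (S : Subgroup L)) ≠ ⊥ := fun h => by
    apply S.ne_bot_of_dvd_card heven
    rw [eq_bot_iff]
    intro x hx
    have : (⟨x, hx⟩ : (S : Subgroup L)) ∈ (⊥ : Subgroup (S : Subgroup L)) := h ▸ mem_top _
    simpa using this
  obtain ⟨⟨z, hzS⟩, -, hzc, hzo⟩ := PGroup.exists_orderOf_eq_mem_center S.2 ⊤ hne
  rw [Subgroup.orderOf_mk] at hzo
  obtain ⟨hz2, hz1⟩ := sq_of_orderOf_two hzo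
  have hzcomm : ∀ s ∈ (S : Subgroup L), Commute z s := fun s hs =>
    (congrArg Subtype.val (mem_center_iff.1 hzc ⟨s, hs⟩)).symm
  obtain ⟨g, hyS, hyz⟩ := exists_conj_ne hL S hzo hzS
  set y := g * z * g⁻¹ with hy
  have hy2 : y * y = 1 := conj_sq g hz2
  have hy1 : y ≠ 1 := fun h => hz1 (by simpa [hy] using h)
  have hc : Commute z y := hzcomm y hyS
  have hV := exhaust hinv hzS hyS hz2 hy2 hc hz1 hy1 hyz.symm
  obtain ⟨hzy2, e1, e2, e3, e4⟩ := four_rel hz2 hy2 hc
  set T : Subgroup L := (S : Subgroup L) ⊓ centralizer {y} with hTdef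
  have hT_mem : ∀ w, w ∈ T ↔ w ∈ (S : Subgroup L) ∧ Commute y w := fun w => by
    rw [hTdef, mem_inf, mem_centralizer_singleton_iff]
    exact and_congr_right fun _ => ⟨fun e => e.symm, fun e => e.symm⟩
  have hTS : T ≤ (S : Subgroup L) := inf_le_left
  have hTp : IsPGroup 2 T := S.2.to_le hTS
  have hzT : z ∈ T := (hT_mem z).2 ⟨hzS, hc.symm⟩
  have hyT : y ∈ T := (hT_mem y).2 ⟨hyS, Commute.refl y⟩
  -- conjugates of `y` under `S`
  have hyconj : ∀ s ∈ (S : Subgroup L), s * y * s⁻¹ = y ∨ s * y * s⁻¹ = z * y := by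
    intro s hs
    rcases hV (s * y * s⁻¹) (mul_mem (mul_mem hs hyS) (inv_mem hs))
        (conj_sq s hy2) with h | h | h | h
    · exact absurd (by simpa using h) hy1
    · refine absurd ?_ hyz
      have h' : y = s⁻¹ * z * s := by rw [← h]; group
      rw [h', mul_assoc, (hzcomm s hs).eq, ← mul_assoc, inv_mul_cancel, one_mul]
    · exact Or.inl h
    · exact Or.inr h
  have hout : ∀ s ∈ (S : Subgroup L), s ∉ T → s * y * s⁻¹ = z * y := fun s hs hsT =>
    (hyconj s hs).resolve_left fun h =>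
      hsT ((hT_mem s).2 ⟨hs, (mul_inv_eq_iff_eq_mul.1 h).symm⟩)
  -- `T` as a 2-group with a metacyclic subgroup of index at most two
  set K : Subgroup T := H.comap (inclusion hTS) with hK
  have hKm : Cfsg.IsMetacyclic ↥K := by
    have hle : K.map (inclusion hTS) ≤ H := map_comap_le _ _
    exact Bicyclic2.isMetacyclic_of_surjective (Bicyclic2.isMetacyclic_of_le hHm hle)
      (K.equivMapOfInjective _ (inclusion_injective hTS)).symm.toMonoidHom
      (K.equivMapOfInjective _ (inclusion_injective hTS)).symm.surjective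
  have hKH : ∀ a b, a ∉ K → b ∉ K → a * b ∈ K := fun a b ha hb => by
    rw [hK, mem_comap, map_mul]; exact hH _ _ ha hb
  -- an element of `N(T)` rotating the involutions
  obtain ⟨h, hhN, hhy⟩ : ∃ h ∈ normalizer (T : Set L), h * y * h⁻¹ = z := by
    have hle : ((g • S : Sylow 2 L) : Subgroup L) ≤ centralizer {y} := by
      intro w hw
      rw [Sylow.coe_subgroup_smul] at hw
      obtain ⟨s, hs, rfl⟩ := hw
      rw [mem_centralizer_singleton_iff, hy]
      show g * s * g⁻¹ * (g * z * g⁻¹) = g * z * g⁻¹ * (g * s * g⁻¹)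
      calc g * s * g⁻¹ * (g * z * g⁻¹) = g * (s * z) * g⁻¹ := by group
        _ = g * (z * s) * g⁻¹ := by rw [(hzcomm s hs).eq]
        _ = _ := by group
    set C := centralizer ({y} : Set L)
    obtain ⟨R, hR⟩ := (hTp.comap_subtype (K := C)).exists_le_sylow
    obtain ⟨c, hc'⟩ := MulAction.exists_smul_eq C R ((g • S : Sylow 2 L).subtype hle)
    set h := g⁻¹ * (c : L) with hh
    have hcy : (c : L) * y * (c : L)⁻¹ = y := by
      rw [mul_inv_eq_iff_eq_mul]; exact mem_centralizer_singleton_iff.1 c.2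
    have hhy : h * y * h⁻¹ = z := by
      rw [hh, show g⁻¹ * (c : L) * y * (g⁻¹ * (c : L))⁻¹ = g⁻¹ * ((c : L) * y * (c : L)⁻¹) * g by group,
        hcy, hy]
      group
    have hin : ∀ w ∈ T, h * w * h⁻¹ ∈ (S : Subgroup L) := by
      intro w hw
      have hwR : (⟨w, (inf_le_right : T ≤ C) hw⟩ : C) ∈ (R : Subgroup C) := hR hw
      have h1 : c * ⟨w, (inf_le_right : T ≤ C) hw⟩ * c⁻¹ ∈ ((c • R : Sylow 2 C) : Subgroup C) := by
        rw [Sylow.coe_subgroup_smul]
        exact smul_mem_pointwise_smul _ _ _ hwR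
      rw [hc', Sylow.coe_subtype, mem_subgroupOf, Sylow.coe_subgroup_smul] at h1
      obtain ⟨s, hs, hse⟩ := h1
      have hse' : g * s * g⁻¹ = (c : L) * w * (c : L)⁻¹ := hse
      rw [hh, show g⁻¹ * (c : L) * w * (g⁻¹ * (c : L))⁻¹ = g⁻¹ * ((c : L) * w * (c : L)⁻¹) * g by group,
        ← hse']
      rw [show g⁻¹ * (g * s * g⁻¹) * g = s by group]
      exact hs
    refine ⟨h, ?_, hhy⟩
    have hz'1 : h * z * h⁻¹ ≠ 1 := by simpa using hz1
    have hz'z : h * z * h⁻¹ ≠ z := fun e => hyz (by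
      have := e.trans hhy.symm
      simpa using this.symm)
    have hmap : T.map (MulAut.conj h).toMonoidHom ≤ T := by
      rintro _ ⟨w, hw, rfl⟩
      show h * w * h⁻¹ ∈ T
      have hwS := hin w hw
      refine (hT_mem _).2 ⟨hwS, ?_⟩
      have hzw : Commute (h * z * h⁻¹) (h * w * h⁻¹) := by
        have := (hzcomm w (hTS hw)).map (MulAut.conj h)
        simpa using this
      rcases hV _ (hin z hzT) (conj_sq h hz2) with e | e | e | e
      · exact absurd e hz'1
      · exact absurd e hz'z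
      · rwa [e] at hzw
      · rw [e] at hzw
        have := (hzcomm _ hwS).mul_left hzw
        rwa [e1] at this
    have heq : T.map (MulAut.conj h).toMonoidHom = T :=
      eq_of_le_of_card_ge hmap (by
        rw [Nat.card_congr (T.equivMapOfInjective _ (MulAut.conj h).injective).symm.toEquiv])
    rw [mem_normalizer_iff]
    intro w
    constructor
    · intro hw
      exact hmap (mem_map_of_mem _ hw)
    · intro hw
      have hw' : h * w * h⁻¹ ∈ T.map (MulAut.conj h).toMonoidHom := by rw [heq]; exact hw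
      obtain ⟨v', hv', hve⟩ := hw'
      have hve' : h * v' * h⁻¹ = h * w * h⁻¹ := hve
      simp at hve'
      exact hve' ▸ hv'
  -- the rotation
  have hzz' : h * z * h⁻¹ = y ∨ h * z * h⁻¹ = z * y := by
    have hmem : h * z * h⁻¹ ∈ T := ((mem_normalizer_iff.1 hhN) z).1 hzT
    rcases hV _ (hTS hmem) (conj_sq h hz2) with e | e | e | e
    · exact absurd (by simpa using e) hz1
    · exact absurd (by simpa using (e.trans hhy.symm).symm) hyz
    · exact Or.inl e
    · exact Or.inr e
  obtain ⟨n, hnN, hn1, hn2⟩ : ∃ n ∈ normalizer (T : Set L), n * y * n⁻¹ = z ∧ n * z * n⁻¹ = z * y := by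
    rcases hzz' with e | e
    swap
    · exact ⟨h, hhN, hhy, e⟩
    by_cases hST : (S : Subgroup L) ≤ T
    · exfalso
      have hTeq : T = (S : Subgroup L) := le_antisymm hTS hST
      obtain ⟨a, o, ho2, ho⟩ := Nat.exists_eq_pow_mul_and_not_dvd (orderOf_pos h).ne' 2 (by norm_num)
      obtain ⟨d, rfl⟩ : Odd o := Nat.odd_iff.2 (by omega)
      have hh2 : Commute (h * h) y := by
        show h * h * y = y * (h * h)
        calc h * h * y = h * (h * y * h⁻¹) * h⁻¹ * (h * h) := by group
          _ = y * (h * h) := by rw [hhy, e]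
      have hk : h ^ (2 * d + 1) * y * (h ^ (2 * d + 1))⁻¹ = z := by
        rw [pow_succ', pow_mul, pow_two, mul_assoc h, (hh2.pow_left d).eq]
        rw [← hhy]; group
      have hkp : IsPGroup 2 (zpowers (h ^ (2 * d + 1))) :=
        IsPGroup.of_card (n := a) (by
          rw [Nat.card_zpowers, orderOf_pow, ho, Nat.gcd_mul_left_left, Nat.mul_div_cancel _ (by omega)])
      have hkS : h ^ (2 * d + 1) ∈ (S : Subgroup L) := by
        have h1 : zpowers (h ^ (2 * d + 1)) ⊓ normalizer ((S : Subgroup L) : Set L) =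
            zpowers (h ^ (2 * d + 1)) ⊓ (S : Subgroup L) := hkp.inf_normalizer_sylow S
        have h2 : h ^ (2 * d + 1) ∈ zpowers (h ^ (2 * d + 1)) ⊓ normalizer ((S : Subgroup L) : Set L) :=
          ⟨mem_zpowers _, by rw [← hTeq]; exact pow_mem hhN _⟩
        rw [h1] at h2
        exact h2.2
      have hcy : Commute y (h ^ (2 * d + 1)) := ((hT_mem _).1 (hST hkS)).2
      rw [hcy.symm.eq, mul_inv_cancel_right] at hk
      exact hyz hk
    · obtain ⟨s, hs, hsT⟩ := SetLike.not_le_iff_exists.1 hST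
      have hsN : s ∈ normalizer (T : Set L) := by
        rw [mem_normalizer_iff]
        intro w
        have hmove : ∀ s' ∈ (S : Subgroup L), ∀ w, w ∈ T → s' * w * s'⁻¹ ∈ T := by
          intro s' hs' w hw
          refine (hT_mem _).2 ⟨mul_mem (mul_mem hs' (hTS hw)) (inv_mem hs'), ?_⟩
          have hcw := ((hT_mem w).1 hw).2.map (MulAut.conj s')
          simp only [MulAut.conj_apply] at hcw
          rcases hyconj s' hs' with e' | e'
          · rwa [e'] at hcw
          · rw [e'] at hcw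
            have := (hzcomm _ (mul_mem (mul_mem hs' (hTS hw)) (inv_mem hs'))).mul_left hcw
            rwa [e1] at this
        refine ⟨hmove s hs w, fun hw => ?_⟩
        simpa [mul_assoc] using hmove s⁻¹ (inv_mem hs) _ hw
      refine ⟨s * h, mul_mem hsN hhN, ?_, ?_⟩
      · rw [show s * h * y * (s * h)⁻¹ = s * (h * y * h⁻¹) * s⁻¹ by group, hhy,
          (hzcomm s hs).symm.eq, mul_inv_cancel_right]
      · rw [show s * h * z * (s * h)⁻¹ = s * (h * z * h⁻¹) * s⁻¹ by group, e, hout s hs hsT]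
  obtain ⟨α, hα3, hmz, hmy, hmw⟩ :=
    exists_rotation hTp hKm hKH hzT hyT hz2 hy2 hc hy1 hz1 hyz.symm hnN hn1 hn2
  obtain ⟨j, p, hpo, hpy, hab, hcard⟩ := homocyclic_of_rotation hTp hKm hKH hα3
    (z := ⟨z, hzT⟩) (y := ⟨y, hyT⟩) (fun e => hy1 (congrArg Subtype.val e)) (Subtype.ext hy2)
    (fun w hw => by
      rcases hV (w : L) (hTS w.2) (congrArg Subtype.val hw) with e | e | e | e
      exacts [Or.inl (Subtype.ext e), Or.inr (Or.inl (Subtype.ext e)),
        Or.inr (Or.inr (Or.inl (Subtype.ext e))), Or.inr (Or.inr (Or.inr (Subtype.ext e)))])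
    hmz hmy hmw
  have hpo' : orderOf (p : L) = 2 ^ (j + 1) := by rw [Subgroup.orderOf_coe, hpo]
  by_cases hST : (S : Subgroup L) ≤ T
  · -- abelian Sylow subgroup
    have hTeq : T = (S : Subgroup L) := le_antisymm hTS hST
    obtain ⟨a, ha, hay⟩ : ∃ a : T, orderOf a = 2 ^ (j + 1) ∧ top p j ≠ top a j := by
      refine ⟨α p, by rw [MulEquiv.orderOf_eq, hpo], fun e => hmy ?_⟩
      rw [← hpy]
      simp only [top, map_pow] at e ⊢
      exact e.symm
    obtain ⟨φ, hφi, -⟩ := pair_hom hpo ha hay (hab _ _)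
    have hbij : Function.Bijective φ :=
      (Nat.bijective_iff_injective_and_card _).2 ⟨hφi, by
        rw [hcard, Nat.card_congr Multiplicative.toAdd, Nat.card_prod, Nat.card_zmod, pow_two]⟩
    let e : (S : Subgroup L) ≃* Multiplicative (ZMod (2 ^ (j + 1)) × ZMod (2 ^ (j + 1))) :=
      (MulEquiv.subgroupCongr hTeq.symm).trans (MulEquiv.ofBijective φ hbij).symm
    rcases Nat.eq_zero_or_pos j with hj | hj
    · subst hj
      have hc4 : Nat.card (S : Subgroup L) = 4 := by
        rw [← hTeq, hcard]; norm_num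
      haveI : IsKleinFour (S : Subgroup L) :=
        { card_four := hc4
          exponent_two := by
            rw [Monoid.exponent_eq_of_mulEquiv e, Monoid.exponent_multiplicative,
              AddMonoid.exponent_prod]
            simp }
      exact IsKleinFour.nonempty_mulEquiv
    · exact ((RankTwoSimple.not_homocyclic hL heven S (n := j + 1) (by omega)).false e).elim
  · -- an involution outside `T`
    exfalso
    obtain ⟨s, hs, hsT⟩ := SetLike.not_le_iff_exists.1 hST
    set E : L := (p : L) with hE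
    set F : L := s * E * s⁻¹ with hF
    have hsconj : ∀ w ∈ T, s * w * s⁻¹ ∈ T := by
      intro w hw
      refine (hT_mem _).2 ⟨mul_mem (mul_mem hs (hTS hw)) (inv_mem hs), ?_⟩
      have hcw := ((hT_mem w).1 hw).2.map (MulAut.conj s)
      simp only [MulAut.conj_apply] at hcw
      rw [hout s hs hsT] at hcw
      have := (hzcomm _ (mul_mem (mul_mem hs (hTS hw)) (inv_mem hs))).mul_left hcw
      rwa [e1] at this
    have hss : s * s ∈ T := by
      refine (hT_mem _).2 ⟨mul_mem hs hs, ?_⟩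
      show y * (s * s) = s * s * y
      have : s * s * y * (s * s)⁻¹ = y := by
        rw [show s * s * y * (s * s)⁻¹ = s * (s * y * s⁻¹) * s⁻¹ by group, hout s hs hsT,
          show s * (z * y) * s⁻¹ = (s * z * s⁻¹) * (s * y * s⁻¹) by group, hout s hs hsT,
          (hzcomm s hs).symm.eq, mul_inv_cancel_right, e1]
      rw [mul_inv_eq_iff_eq_mul] at this
      exact this.symm
    let q : T := ⟨F, hsconj _ p.2⟩
    have hqo : orderOf q = 2 ^ (j + 1) := by
      rw [← Subgroup.orderOf_coe]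
      show orderOf F = _
      rw [hF, ← MulAut.conj_apply, MulEquiv.orderOf_eq, hpo']
    have hne' : top p j ≠ top q j := by
      intro e
      have e' : y = F ^ 2 ^ j := by
        have := congrArg Subtype.val (hpy.symm.trans e)
        simpa [top] using this
      rw [hF, conj_pow, show E ^ 2 ^ j = y from by simpa [top] using congrArg Subtype.val hpy,
        hout s hs hsT] at e'
      exact hz1 (by simpa using e'.symm)
    obtain ⟨φ, hφi, hφ⟩ := pair_hom hpo hqo hne' (hab _ _)
    have hbij : Function.Bijective φ :=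
      (Nat.bijective_iff_injective_and_card _).2 ⟨hφi, by
        rw [hcard, Nat.card_congr Multiplicative.toAdd, Nat.card_prod, Nat.card_zmod, pow_two]⟩
    obtain ⟨a, b, hab'⟩ := exists_coords hpo hqo hne' (hab _ _) hcard ⟨s * s, hss⟩
    have hC : Commute E F := congrArg Subtype.val (hab p q)
    have hprod : s * s = E ^ a * F ^ b := by simpa using congrArg Subtype.val hab'
    have hFs : ∀ i : ℤ, s * E ^ i * s⁻¹ = F ^ i := fun i => by rw [hF, ← conj_zpow]
    have hEs : s * F * s⁻¹ = E := by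
      have hc2 : Commute E (s * s) := congrArg Subtype.val (hab p ⟨s * s, hss⟩)
      calc s * F * s⁻¹ = (s * s) * E * (s * s)⁻¹ := by rw [hF]; group
        _ = E := by rw [← hc2.eq, mul_inv_cancel_right]
    have hfix : E ^ a * F ^ b = F ^ a * E ^ b := by
      have h1 : s * (s * s) * s⁻¹ = s * s := by group
      rw [hprod, show s * (E ^ a * F ^ b) * s⁻¹ = (s * E ^ a * s⁻¹) * (s * F ^ b * s⁻¹) by group,
        hFs, ← conj_zpow, hEs] at h1
      exact h1.symm
    have hba : E ^ a = E ^ b := by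
      rw [← (hC.zpow_zpow b a).eq] at hfix
      exact congrArg Subtype.val (pair_eq hpo hqo hne' (hab _ _) (a := a) (b := b) (c := b) (d := a)
        (Subtype.ext (by simpa using hfix))).1
    set r : L := s * E ^ (-a) with hr
    have hrS : r ∈ (S : Subgroup L) := mul_mem hs (zpow_mem (hTS p.2) _)
    have hr2 : r * r = 1 := by
      calc r * r = (s * E ^ (-a) * s⁻¹) * (s * s) * E ^ (-a) := by rw [hr]; group
        _ = F ^ (-a) * (E ^ b * F ^ b) * (E ^ b)⁻¹ := by rw [hFs, hprod, zpow_neg E, hba]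
        _ = F ^ (-a) * (F ^ b * E ^ b) * (E ^ b)⁻¹ := by rw [(hC.zpow_zpow b b).eq]
        _ = F ^ (b - a) := by group
        _ = 1 := by
          have h1 : F ^ a = F ^ b := by rw [← hFs, ← hFs, hba]
          rw [zpow_sub, h1, mul_inv_cancel]
    have hrT : r ∉ T := fun hh => hsT (by
      have h2 := mul_mem hh (zpow_mem p.2 a)
      rwa [hr, mul_assoc, ← zpow_add, neg_add_cancel, zpow_zero, mul_one] at h2)
    rcases hV r hrS hr2 with e | e | e | e
    · exact hrT (e ▸ one_mem T)
    · exact hrT (e ▸ hzT)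
    · exact hrT (e ▸ hyT)
    · exact hrT (e ▸ mul_mem hzT hyT)

/-- If `z` is central in a Sylow 2-subgroup, the centralizer of a conjugate `y` of `z` can be moved into it,
taking `y` to `z`. -/
theorem exists_conj_into {G : Type*} [Group G] [Finite G] (S : Sylow 2 G) {z : G}
    (hz : ∀ s ∈ (S : Subgroup G), Commute z s) (g : G) :
    ∃ h : G, h * (g * z * g⁻¹) * h⁻¹ = z ∧
      ∀ w ∈ (S : Subgroup G), Commute (g * z * g⁻¹) w → h * w * h⁻¹ ∈ (S : Subgroup G) := by
  haveI : Fact (Nat.Prime 2) := ⟨Nat.prime_two⟩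
  set y := g * z * g⁻¹ with hy
  set C := centralizer ({y} : Set G)
  have hle : ((g • S : Sylow 2 G) : Subgroup G) ≤ C := by
    intro w hw
    rw [Sylow.coe_subgroup_smul] at hw
    obtain ⟨s, hs, rfl⟩ := hw
    have h := ((hz s hs).map (MulAut.conj g)).symm.eq
    simp only [MulAut.conj_apply] at h
    exact mem_centralizer_singleton_iff.2 h
  set T : Subgroup G := (S : Subgroup G) ⊓ C
  have hTp : IsPGroup 2 T := S.2.to_le inf_le_left
  obtain ⟨R, hR⟩ := (hTp.comap_subtype (K := C)).exists_le_sylow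
  obtain ⟨c, hc'⟩ := MulAction.exists_smul_eq C R ((g • S : Sylow 2 G).subtype hle)
  refine ⟨g⁻¹ * (c : G), ?_, fun w hw hyw => ?_⟩
  · have hcy : (c : G) * y * (c : G)⁻¹ = y := by
      rw [mul_inv_eq_iff_eq_mul]; exact mem_centralizer_singleton_iff.1 c.2
    rw [show g⁻¹ * (c : G) * y * (g⁻¹ * (c : G))⁻¹ = g⁻¹ * ((c : G) * y * (c : G)⁻¹) * g by group,
      hcy, hy]
    group
  · have hwC : w ∈ C := mem_centralizer_singleton_iff.2 hyw.symm.eq
    have hwR : (⟨w, hwC⟩ : C) ∈ (R : Subgroup C) := hR ⟨hw, hwC⟩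
    have h1 : c * ⟨w, hwC⟩ * c⁻¹ ∈ ((c • R : Sylow 2 C) : Subgroup C) := by
      rw [Sylow.coe_subgroup_smul]
      exact smul_mem_pointwise_smul _ _ _ hwR
    rw [hc', Sylow.coe_subtype, mem_subgroupOf, Sylow.coe_subgroup_smul] at h1
    obtain ⟨s, hs, hse⟩ := h1
    have hse' : g * s * g⁻¹ = (c : G) * w * (c : G)⁻¹ := hse
    rw [show g⁻¹ * (c : G) * w * (g⁻¹ * (c : G))⁻¹ = g⁻¹ * ((c : G) * w * (c : G)⁻¹) * g by group,
      ← hse', show g⁻¹ * (g * s * g⁻¹) * g = s by group]
    exact hs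

/-- No element normalizing `S` swaps two elements central in `S`. -/
theorem false_of_swap {G : Type*} [Group G] [Finite G] (S : Sylow 2 G) {n a b : G}
    (hn : n ∈ normalizer ((S : Subgroup G) : Set G)) (ha : ∀ s ∈ (S : Subgroup G), Commute a s)
    (h1 : n * a * n⁻¹ = b) (h2 : n * b * n⁻¹ = a) (hne : a ≠ b) : False := by
  haveI : Fact (Nat.Prime 2) := ⟨Nat.prime_two⟩
  obtain ⟨e, o, ho2, ho⟩ := Nat.exists_eq_pow_mul_and_not_dvd (orderOf_pos n).ne' 2 (by norm_num)
  obtain ⟨d, rfl⟩ : Odd o := Nat.odd_iff.2 (by omega)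
  have hn2 : Commute (n * n) a := by
    show n * n * a = a * (n * n)
    calc n * n * a = n * (n * a * n⁻¹) * n⁻¹ * (n * n) := by group
      _ = a * (n * n) := by rw [h1, h2]
  have hk : n ^ (2 * d + 1) * a * (n ^ (2 * d + 1))⁻¹ = b := by
    rw [pow_succ', pow_mul, pow_two, mul_assoc n, (hn2.pow_left d).eq, ← h1]
    group
  have hkp : IsPGroup 2 (zpowers (n ^ (2 * d + 1))) :=
    IsPGroup.of_card (n := e) (by
      rw [Nat.card_zpowers, orderOf_pow, ho, Nat.gcd_mul_left_left,
        Nat.mul_div_cancel _ (by omega)])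
  have hkS : n ^ (2 * d + 1) ∈ (S : Subgroup G) := by
    have h : zpowers (n ^ (2 * d + 1)) ⊓ normalizer ((S : Subgroup G) : Set G) =
        zpowers (n ^ (2 * d + 1)) ⊓ (S : Subgroup G) := hkp.inf_normalizer_sylow S
    exact (h.le ⟨mem_zpowers _, pow_mem hn _⟩).2
  rw [← (ha _ hkS).eq, mul_inv_cancel_right] at hk
  exact hne hk

/-- An involution of a Sylow 2-subgroup of a simple group is conjugate into every subgroup of index two. -/
theorem exists_conj_mem (hL : ¬ IsMulCommutative L) (S : Sylow 2 L) (Q : Subgroup L)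
    (hQS : Q ≤ (S : Subgroup L)) (hQi : Q.relIndex (S : Subgroup L) = 2) {w : L}
    (hw : w * w = 1) (hwS : w ∈ (S : Subgroup L)) : ∃ g : L, g * w * g⁻¹ ∈ Q := by
  by_contra h
  push Not at h
  have hwQ : w ∉ Q := fun hh => h 1 (by simpa using hh)
  obtain ⟨M, -, hM, -⟩ :=
    Transfer.exists_index_two_of_involution S Q hQS hQi w (by rw [pow_two, hw]) hwS hwQ h
  exact RankTwoSimple.index_ne_two hL M hM

end Cfsg.Agent.CyclicTimesZ
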