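import Cfsg.Agent.Lib.CyclicTimesZ.Basic
import Cfsg.Agent.Lib.CyclicTimesZ.Facts
import Cfsg.Agent.Lib.CyclicTimesZ.ThreeInvolutions
import Cfsg.Agent.Lib.Perm.MinimalNormal
import Cfsg.Agent.Lib.RankTwoSimple.Basic

/-!
# The socle of a cyclic-times-Z-group

`Fac.exists_socle`: a simple nonabelian normal subgroup with trivial centralizer, because the bicyclic Sylow
2-subgroup has no elementary abelian subgroup of order 16.
-/

set_option autoImplicit false
set_option linter.unusedSectionVars false
set_option linter.style.haveILetI false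

namespace Cfsg.Agent.CyclicTimesZ

open Subgroup

universe u

variable {G : Type u} [Group G] [Finite G] {A B : Subgroup G}

/-- A nonabelian simple group has a Klein four-subgroup. -/
theorem exists_four {L : Type*} [Group L] [Finite L] [IsSimpleGroup L] (hL : ¬ IsMulCommutative L) :
    ∃ E : Subgroup L, IsKleinFour E := by
  haveI : Fact (Nat.Prime 2) := ⟨Nat.prime_two⟩
  by_contra h
  push Not at h
  obtain ⟨z, hz⟩ := exists_prime_orderOf_dvd_card' (G := L) 2 (two_dvd_card hL)
  exact RankTwoSimple.not_isolated hL z (ZStar.isolated_of_no_kleinFour h hz)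

/-- No elementary abelian group of order 16 embeds. -/
theorem Fac.false_of_sixteen (F : Fac G A B) {T : Type*} [Group T] [Finite T] (hT : Nat.card T = 16)
    (hsq : ∀ t : T, t * t = 1) (f : T →* G) (hf : Function.Injective f) : False := by
  classical
  haveI : Fact (Nat.Prime 2) := ⟨Nat.prime_two⟩
  haveI := Fintype.ofFinite T
  obtain ⟨P, a, d, -, hprod, -⟩ := F.exists_sylow
  obtain ⟨H, hHm, hH⟩ := (bicyclic_facts P hprod F.nsol).index
  -- into `P`
  have hTp : IsPGroup 2 f.range :=
    IsPGroup.of_surjective (IsPGroup.of_card (p := 2) (n := 4) hT) f.rangeRestrict f.rangeRestrict_surjective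
  obtain ⟨Q, hQ⟩ := hTp.exists_le_sylow
  obtain ⟨g, hg⟩ := MulAction.exists_smul_eq G Q P
  have hmem : ∀ t : T, g * f t * g⁻¹ ∈ (P : Subgroup G) := fun t => by
    rw [← hg]
    exact ⟨f t, hQ ⟨t, rfl⟩, rfl⟩
  let φ : T →* (P : Subgroup G) := ((MulAut.conj g).toMonoidHom.comp f).codRestrict _ hmem
  have hφ : Function.Injective φ := fun s t h => hf (by simpa [φ] using congrArg Subtype.val h)
  set S : Subgroup T := H.comap φ with hS
  have hcomm : ∀ s t : T, Commute s t := fun s t => by
    have h1 := mul_eq_one_iff_eq_inv.1 (hsq (s * t))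
    rw [mul_inv_rev, ← mul_eq_one_iff_eq_inv.1 (hsq s), ← mul_eq_one_iff_eq_inv.1 (hsq t)] at h1
    exact h1
  have h8 : 8 ≤ Nat.card S := by
    have e := S.card_mul_index
    rw [hT] at e
    by_cases hall : ∀ t, t ∈ S
    · rw [(eq_top_iff' S).2 hall, card_top, hT]; norm_num
    push Not at hall
    obtain ⟨s, hs⟩ := hall
    have hi : S.index = 2 := index_eq_two_iff.2 ⟨s, fun b => by
      by_cases hb : b ∈ S
      · exact Or.inr ⟨hb, fun h => hs ((mul_mem_cancel_left hb).1 h)⟩
      · exact Or.inl ⟨mem_comap.2 (by rw [map_mul]; exact hH _ _ hb hs), hb⟩⟩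
    rw [hi] at e
    omega
  haveI := Fintype.ofFinite S
  haveI : Nontrivial S := Finite.one_lt_card_iff_nontrivial.1 (by omega)
  obtain ⟨u, hu⟩ := exists_ne (1 : S)
  obtain ⟨v, hv⟩ : ∃ v : S, v ∉ ({1, u} : Finset S) := by
    by_contra hh
    push Not at hh
    have := (Finset.card_le_card (s := (Finset.univ : Finset S)) (t := {1, u}) fun x _ => hh x).trans
      Finset.card_le_two
    rw [Finset.card_univ, ← Nat.card_eq_fintype_card] at this
    omega
  simp only [Finset.mem_insert, Finset.mem_singleton, not_or] at hv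
  have hcov : ∀ w : S, w ∈ ({1, u, v, u * v} : Finset S) := fun w => by
    have key := Bicyclic2.four_mem hHm (u := φ u) (v := φ v) (w := φ w) u.2 v.2 w.2
      (by rw [← map_mul, hsq, map_one]) (by rw [← map_mul, hsq, map_one]) (by rw [← map_mul, hsq, map_one])
      ((hcomm _ _).map φ) ((hcomm _ _).map φ) ((hcomm _ _).map φ)
      (fun h => hu (Subtype.ext (hφ (h.trans (map_one φ).symm))))
      (fun h => hv.1 (Subtype.ext (hφ (h.trans (map_one φ).symm))))
      (fun h => hv.2 (Subtype.ext (hφ h)).symm)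
    simp only [Finset.mem_insert, Finset.mem_singleton]
    rcases key with h | h | h | h
    · exact Or.inl (Subtype.ext (hφ (h.trans (map_one φ).symm)))
    · exact Or.inr (Or.inl (Subtype.ext (hφ h)))
    · exact Or.inr (Or.inr (Or.inl (Subtype.ext (hφ h))))
    · exact Or.inr (Or.inr (Or.inr (Subtype.ext (hφ (h.trans (map_mul φ _ _).symm)))))
  have h4 := Finset.card_le_card (s := (Finset.univ : Finset S)) fun x _ => hcov x
  rw [Finset.card_univ, ← Nat.card_eq_fintype_card] at h4
  have := h4.trans Finset.card_le_four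
  omega

/-- Two commuting Klein four-groups which meet trivially. -/
theorem Fac.false_of_two_fours (F : Fac G A B) {E E' : Subgroup G} (hE : IsKleinFour E) (hE' : IsKleinFour E')
    (hd : E ⊓ E' = ⊥) (hc : ∀ x ∈ E, ∀ y ∈ E', Commute x y) : False := by
  haveI := hE
  haveI := hE'
  let f : E × E' →* G := MonoidHom.noncommCoprod E.subtype E'.subtype fun x y => hc x x.2 y y.2
  have hinv : ∀ y : E', (y : G)⁻¹ ∈ E' := fun y => inv_mem y.2
  refine F.false_of_sixteen (T := E × E') ?_ (fun t => ?_) f ?_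
  · rw [Nat.card_prod, IsKleinFour.card_four, IsKleinFour.card_four]
  · exact Prod.ext (IsKleinFour.mul_self t.1) (IsKleinFour.mul_self t.2)
  · refine (injective_iff_map_eq_one f).2 fun t ht => ?_
    have h1 : (t.1 : G) * (t.2 : G) = 1 := ht
    have h2 : (t.1 : G) ∈ E ⊓ E' := ⟨t.1.2, by rw [mul_eq_one_iff_eq_inv.1 h1]; exact hinv t.2⟩
    rw [hd, mem_bot] at h2
    rw [h2, one_mul] at h1
    exact Prod.ext (Subtype.ext h2) (Subtype.ext h1)

theorem isKleinFour_map {X Y : Type*} [Group X] [Group Y] (f : X →* Y) (hf : Function.Injective f)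
    {E : Subgroup X} (h : IsKleinFour E) : IsKleinFour (E.map f) := by
  haveI := h
  refine ⟨?_, ?_⟩
  · rw [← Nat.card_congr (E.equivMapOfInjective f hf).toEquiv, IsKleinFour.card_four]
  · rw [← Monoid.exponent_eq_of_mulEquiv (E.equivMapOfInjective f hf), IsKleinFour.exponent_two]

/-- The socle. -/
theorem Fac.exists_socle (F : Fac G A B) :
    ∃ L : Subgroup G, L.Normal ∧ IsSimpleGroup L ∧ ¬ IsMulCommutative L ∧ centralizer (L : Set G) = ⊥ := by
  classical
  haveI := Fintype.ofFinite G
  -- every minimal normal subgroup is nonabelian simple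
  have key : ∀ N : Subgroup G, N.Normal → N ≠ ⊥ →
      (∀ M : Subgroup G, M.Normal → M ≤ N → M = ⊥ ∨ M = N) →
      IsSimpleGroup N ∧ ¬ IsMulCommutative N := by
    intro N hN hbot hmin
    obtain ⟨T, iT, m, hTs, hm, ⟨e⟩⟩ := Perm.exists_simple_power N hbot hmin
    haveI : Finite T := Finite.of_injective (fun t => e.symm fun _ : Fin m => t) fun s t h =>
      congrFun (e.symm.injective h) ⟨0, hm⟩
    have hTna : ¬ IsMulCommutative T := fun hc => hbot (F.rad N hN (by
      haveI := hc
      haveI : IsMulCommutative N := ⟨⟨fun x y => e.injective (by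
        rw [map_mul, map_mul]; exact funext fun i => mul_comm' (e x i) (e y i))⟩⟩
      letI : CommGroup N := { (inferInstance : Group N) with mul_comm := mul_comm' }
      infer_instance))
    by_cases hm1 : m = 1
    · subst hm1
      have e' : N ≃* T := e.trans
        { toFun := fun f => f 0
          invFun := fun t _ => t
          left_inv := fun f => funext fun i => by rw [Subsingleton.elim i 0]
          right_inv := fun _ => rfl
          map_mul' := fun _ _ => rfl }
      haveI : Nontrivial N := (nontrivial_iff_ne_bot N).2 hbot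
      refine ⟨IsSimpleGroup.isSimpleGroup_of_surjective e'.symm.toMonoidHom e'.symm.surjective,
        fun hc => hTna ⟨⟨fun s t => e'.symm.injective (by rw [map_mul, map_mul]; exact mul_comm' _ _)⟩⟩⟩
    · exfalso
      obtain ⟨E, hE⟩ := exists_four (L := T) hTna
      let ι : Fin m → (T →* G) := fun i =>
        N.subtype.comp (e.symm.toMonoidHom.comp (MonoidHom.mulSingle (fun _ : Fin m => T) i))
      have hι : ∀ i, Function.Injective (ι i) := fun i s t h => by
        have h1 := e.symm.injective (N.subtype_injective h)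
        simpa using congrFun h1 i
      let i₀ : Fin m := ⟨0, hm⟩
      let i₁ : Fin m := ⟨1, by omega⟩
      have hne : i₀ ≠ i₁ := by simp [i₀, i₁]
      refine F.false_of_two_fours (isKleinFour_map _ (hι i₀) hE) (isKleinFour_map _ (hι i₁) hE) ?_ ?_
      · rw [eq_bot_iff]
        rintro _ ⟨⟨s, -, rfl⟩, ⟨t, -, hts⟩⟩
        have h1 := congrFun (e.symm.injective (N.subtype_injective hts)) i₀
        simp [hne] at h1
        rw [mem_bot, ← h1, map_one]
      · rintro _ ⟨s, -, rfl⟩ _ ⟨t, -, rfl⟩
        exact (((Pi.mulSingle_commute hne s t).map e.symm.toMonoidHom).map N.subtype :)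
  have hne : (⊤ : Subgroup G) ≠ ⊥ := fun h => F.nsol (by
    haveI : Subsingleton G := Subgroup.subsingleton_iff.1 (subsingleton_of_bot_eq_top h.symm)
    infer_instance)
  have hmin : ∀ K : Subgroup G, K.Normal → K ≠ ⊥ → ∃ N : Subgroup G, N.Normal ∧ N ≠ ⊥ ∧ N ≤ K ∧
      ∀ M : Subgroup G, M.Normal → M ≤ N → M = ⊥ ∨ M = N := by
    intro K hK hKb
    obtain ⟨N, hNle, hN⟩ := Set.Finite.exists_le_minimal
      (Set.toFinite {N : Subgroup G | N.Normal ∧ N ≠ ⊥}) (a := K) ⟨hK, hKb⟩
    refine ⟨N, hN.1.1, hN.1.2, hNle, fun M hM hMN => ?_⟩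
    by_cases hMb : M = ⊥
    · exact Or.inl hMb
    · exact Or.inr (le_antisymm hMN (hN.2 ⟨hM, hMb⟩ hMN))
  obtain ⟨L, hL, hLb, -, hLmin⟩ := hmin ⊤ inferInstance hne
  obtain ⟨hLs, hLna⟩ := key L hL hLb hLmin
  haveI := hL
  haveI := hLs
  refine ⟨L, hL, hLs, hLna, ?_⟩
  by_contra hC
  obtain ⟨N, hN, hNb, hNC, hNmin⟩ := hmin _ inferInstance hC
  obtain ⟨hNs, hNna⟩ := key N hN hNb hNmin
  haveI := hNs
  obtain ⟨E, hE⟩ := exists_four hLna
  obtain ⟨E', hE'⟩ := exists_four hNna
  have hdis : L ⊓ N = ⊥ := by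
    refine (hLmin (L ⊓ N) inferInstance inf_le_left).resolve_right fun h => hLna ?_
    refine ⟨⟨fun x y => Subtype.ext ?_⟩⟩
    exact (mem_centralizer_iff.1 (hNC ((h.ge y.2).2)) x x.2)
  refine F.false_of_two_fours (isKleinFour_map _ L.subtype_injective hE)
    (isKleinFour_map _ N.subtype_injective hE') ?_ ?_
  · exact eq_bot_iff.2 (hdis ▸ inf_le_inf (map_subtype_le E) (map_subtype_le E'))
  · intro x hx y hy
    exact mem_centralizer_iff.1 (hNC (map_subtype_le E' hy)) x (map_subtype_le E hx)

end Cfsg.Agent.CyclicTimesZ
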