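import Cfsg.Agent.Lib.Bicyclic2.Shape
import Cfsg.Agent.Lib.Bicyclic2.Config
import Cfsg.Agent.Lib.PGroup.MetacyclicTwo

/-!
# Automorphisms of 2-groups with three generators and few involutions

* `cube_eq_one`: an automorphism of 3-power order of a 2-group with a metacyclic subgroup of index at
  most two has order at most three;
* `pair_eq`, `pair_cover`: two commuting elements of the same 2-power order with distinct involutions.
-/

set_option autoImplicit false
set_option linter.unusedSectionVars false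

namespace Cfsg.Agent.CyclicTimesZ

variable {T : Type*} [Group T] [Finite T]

/-- A permutation of 3-power order of at most eight points has order at most three. -/
theorem perm_cube {X : Type*} [Finite X] (hX : Nat.card X ≤ 8) (f : X → X) {b : ℕ}
    (hf : ∀ x, f^[3 ^ b] x = x) (x : X) : f^[3] x = x := by
  have hper : Function.IsPeriodicPt f (3 ^ b) x := hf x
  obtain ⟨j, -, hj⟩ := (Nat.dvd_prime_pow Nat.prime_three).1 hper.minimalPeriod_dvd
  have hle : Function.minimalPeriod f x ≤ Nat.card X := by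
    have h := Nat.card_le_card_of_injective
      (fun i : Fin (Function.minimalPeriod f x) => f^[(i : ℕ)] x)
      fun i k hik => Fin.ext (Function.iterate_injOn_Iio_minimalPeriod (Set.mem_Iio.2 i.2)
        (Set.mem_Iio.2 k.2) hik)
    simpa using h
  have hdvd : Function.minimalPeriod f x ∣ 3 := by
    rw [hj] at hle ⊢
    rcases Nat.lt_or_ge j 2 with h | h
    · interval_cases j <;> norm_num
    · have : 3 ^ 2 ≤ 3 ^ j := Nat.pow_le_pow_right (by norm_num) h
      omega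
  exact (Function.isPeriodicPt_minimalPeriod f x).trans_dvd hdvd

/-- An automorphism of 3-power order of a three-generated 2-group has order at most three. -/
theorem cube_eq_one (hT : IsPGroup 2 T) {H : Subgroup T} (hHm : Cfsg.IsMetacyclic ↥H)
    (hH : ∀ x y, x ∉ H → y ∉ H → x * y ∈ H) {β : MulAut T} {b : ℕ} (hβ : β ^ 3 ^ b = 1) :
    β ^ 3 = 1 := by
  haveI : Fact (Nat.Prime 2) := ⟨Nat.prime_two⟩
  haveI : Finite (T ⧸ frattini T) := inferInstance
  obtain ⟨ψ, hψ⟩ := Bicyclic2.exists_frattini_action T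
  have hit : ∀ (n : ℕ) (t : T ⧸ frattini T), (ψ β)^[n] t = ψ (β ^ n) t := by
    intro n
    induction n with
    | zero => intro t; simp
    | succ n ih =>
      intro t
      rw [Function.iterate_succ_apply', ih, pow_succ', map_mul, MulAut.mul_apply]
  have hcube : ∀ t : T ⧸ frattini T, ψ (β ^ 3) t = t := fun t => by
    rw [← hit]
    exact perm_cube (Bicyclic2.card_frattini_quot_le hT hHm hH) _ (b := b)
      (fun u => by rw [hit, hβ, map_one]; rfl) t
  refine PGroup.MetacyclicTwo.aut_trivial_of_frattini hT ?_ fun x => ?_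
  · have hd : orderOf (β ^ 3) ∣ 3 ^ b := orderOf_dvd_of_pow_eq_one (by
      rw [← pow_mul, mul_comm, pow_mul, hβ, one_pow])
    exact Nat.coprime_two_right.2 (Odd.of_dvd_nat (Odd.pow (by decide)) hd)
  · have h := hcube (x : T ⧸ frattini T)
    rw [hψ] at h
    exact QuotientGroup.eq.1 h.symm

/-- The involution of a cyclic 2-group. -/
def top (e : T) (j : ℕ) : T := e ^ 2 ^ j

theorem top_eq_one_of_lt {e : T} {j : ℕ} (he : orderOf e = 2 ^ (j + 1)) :
    top e j * top e j = 1 ∧ top e j ≠ 1 := by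
  constructor
  · rw [top, ← pow_add, show 2 ^ j + 2 ^ j = 2 ^ (j + 1) by rw [pow_succ]; ring, ← he,
      pow_orderOf_eq_one]
  · intro h
    have := Nat.le_of_dvd (Nat.two_pow_pos j) (orderOf_dvd_of_pow_eq_one h)
    rw [he] at this
    exact absurd this (not_le.2 (Nat.pow_lt_pow_right (by norm_num) (Nat.lt_succ_self j)))

theorem exists_top_of_ne_one {e : T} {j : ℕ} (he : orderOf e = 2 ^ (j + 1)) {i : ℤ}
    (hi : e ^ i ≠ 1) : ∃ k : ℤ, (e ^ i) ^ k = top e j := by
  obtain ⟨g, hg, hgo⟩ : ∃ g, g ≤ j + 1 ∧ orderOf (e ^ i) = 2 ^ g :=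
    (Nat.dvd_prime_pow Nat.prime_two).1 (he ▸ orderOf_dvd_of_mem_zpowers (Subgroup.zpow_mem_zpowers e i))
  obtain ⟨m, rfl⟩ : ∃ m, g = m + 1 :=
    Nat.exists_eq_succ_of_ne_zero fun h => hi (orderOf_eq_one_iff.1 (by rw [hgo, h, pow_zero]))
  refine ⟨2 ^ m, ?_⟩
  have hw := top_eq_one_of_lt hgo
  rw [show (2 : ℤ) ^ m = ((2 ^ m : ℕ) : ℤ) by push_cast; rfl, zpow_natCast, ← top]
  set w := top (e ^ i) m with hwdef
  have hwz : w = e ^ (i * 2 ^ m) := by
    rw [hwdef, top, ← zpow_natCast, ← zpow_mul]; push_cast; rfl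
  have h2 : (2 : ℤ) ^ (j + 1) ∣ 2 * (i * 2 ^ m) := by
    have h := orderOf_dvd_iff_zpow_eq_one (x := e) (i := 2 * (i * 2 ^ m))
    rw [he] at h
    refine (show ((2 ^ (j + 1) : ℕ) : ℤ) = 2 ^ (j + 1) by push_cast; rfl) ▸ h.2 ?_
    rw [two_mul, zpow_add, ← hwz, hw.1]
  obtain ⟨c, hc⟩ : (2 : ℤ) ^ j ∣ i * 2 ^ m := by
    rw [pow_succ'] at h2
    exact (mul_dvd_mul_iff_left two_ne_zero).1 h2
  have hsq := (top_eq_one_of_lt he).1
  have hwt : w = top e j ^ c := by
    rw [hwz, hc, zpow_mul, top, ← zpow_natCast]; push_cast; rfl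
  obtain ⟨q, rfl | rfl⟩ := Int.even_or_odd' c
  · exact absurd (by rw [hwt, zpow_mul, zpow_two, hsq, one_zpow]) hw.2
  · rw [hwt, zpow_add, zpow_mul, zpow_two, hsq, one_zpow, one_mul, zpow_one]

/-- Two cyclic 2-subgroups of the same order with distinct involutions meet trivially. -/
theorem pair_eq {e f : T} {j : ℕ} (he : orderOf e = 2 ^ (j + 1)) (hf : orderOf f = 2 ^ (j + 1))
    (hne : top e j ≠ top f j) {a b c d : ℤ} (hc : Commute e f)
    (h : e ^ a * f ^ b = e ^ c * f ^ d) : e ^ a = e ^ c ∧ f ^ b = f ^ d := by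
  have h1 : e ^ (a - c) = f ^ (d - b) := by
    rw [zpow_sub, zpow_sub]
    calc e ^ a * (e ^ c)⁻¹ = (e ^ c)⁻¹ * e ^ a := ((Commute.refl e).zpow_zpow a c).inv_right
      _ = (e ^ c)⁻¹ * ((e ^ a * f ^ b) * (f ^ b)⁻¹) := by rw [mul_inv_cancel_right]
      _ = (e ^ c)⁻¹ * ((e ^ c * f ^ d) * (f ^ b)⁻¹) := by rw [h]
      _ = f ^ d * (f ^ b)⁻¹ := by group
  by_cases h2 : e ^ (a - c) = 1
  · have ha : e ^ a = e ^ c := by rwa [zpow_sub, mul_inv_eq_one] at h2
    exact ⟨ha, mul_left_cancel (a := e ^ c) (by rwa [ha] at h)⟩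
  exfalso
  obtain ⟨k, hk⟩ := exists_top_of_ne_one he h2
  have h3 : (f ^ (d - b)) ^ k ≠ 1 := by
    rw [← h1, hk]; exact (top_eq_one_of_lt he).2
  rw [← zpow_mul] at h3
  obtain ⟨k', hk'⟩ := exists_top_of_ne_one hf h3
  refine hne ?_
  rw [← hk', zpow_mul, ← h1, hk]
  have hsq := (top_eq_one_of_lt he).1
  obtain ⟨q, rfl | rfl⟩ := Int.even_or_odd' k'
  · exfalso
    apply (top_eq_one_of_lt hf).2
    rw [← hk', zpow_mul f, ← h1, hk, zpow_mul, zpow_two, hsq, one_zpow]
  · rw [zpow_add, zpow_mul, zpow_two, hsq, one_zpow, one_mul, zpow_one]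

/-- Such a pair generates a homocyclic subgroup. -/
theorem pair_hom {e f : T} {j : ℕ} (he : orderOf e = 2 ^ (j + 1)) (hf : orderOf f = 2 ^ (j + 1))
    (hne : top e j ≠ top f j) (hc : Commute e f) :
    ∃ φ : Multiplicative (ZMod (2 ^ (j + 1)) × ZMod (2 ^ (j + 1))) →* T, Function.Injective φ ∧
      ∀ a b : ℤ, e ^ a * f ^ b ∈ φ.range := by
  set N := 2 ^ (j + 1) with hN
  let φe : ZMod N →+ Additive T := ZMod.lift N
    ⟨(zmultiplesHom (Additive T)) (Additive.ofMul e), by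
      show ((N : ℤ) • Additive.ofMul e : Additive T) = 0
      rw [← ofMul_zpow, zpow_natCast, ← he, pow_orderOf_eq_one]; rfl⟩
  let φf : ZMod N →+ Additive T := ZMod.lift N
    ⟨(zmultiplesHom (Additive T)) (Additive.ofMul f), by
      show ((N : ℤ) • Additive.ofMul f : Additive T) = 0
      rw [← ofMul_zpow, zpow_natCast, ← hf, pow_orderOf_eq_one]; rfl⟩
  have hve : ∀ a : ℤ, Additive.toMul (φe (a : ZMod N)) = e ^ a := fun a => by
    simp [φe, ZMod.lift_coe]
  have hvf : ∀ a : ℤ, Additive.toMul (φf (a : ZMod N)) = f ^ a := fun a => by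
    simp [φf, ZMod.lift_coe]
  let φ : Multiplicative (ZMod N × ZMod N) →* T :=
    MonoidHom.mk' (fun v => Additive.toMul (φe v.toAdd.1) * Additive.toMul (φf v.toAdd.2)) (by
      intro v w
      obtain ⟨a, ha⟩ := ZMod.intCast_surjective v.toAdd.1
      obtain ⟨b, hb⟩ := ZMod.intCast_surjective v.toAdd.2
      obtain ⟨c, hc'⟩ := ZMod.intCast_surjective w.toAdd.1
      obtain ⟨d, hd⟩ := ZMod.intCast_surjective w.toAdd.2
      simp only [toAdd_mul, Prod.fst_add, Prod.snd_add, map_add, toMul_add, ← ha, ← hb, ← hc', ← hd,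
        hve, hvf]
      rw [mul_assoc (e ^ a) (e ^ c), ← mul_assoc (e ^ c), (hc.zpow_zpow c b).eq]
      group)
  have hφ : ∀ a b : ℤ, φ (Multiplicative.ofAdd ((a : ZMod N), (b : ZMod N))) = e ^ a * f ^ b :=
    fun a b => by simp [φ, hve, hvf]
  refine ⟨φ, fun v w hvw => ?_, fun a b => ⟨_, hφ a b⟩⟩
  obtain ⟨a, ha⟩ := ZMod.intCast_surjective v.toAdd.1
  obtain ⟨b, hb⟩ := ZMod.intCast_surjective v.toAdd.2
  obtain ⟨c, hc'⟩ := ZMod.intCast_surjective w.toAdd.1
  obtain ⟨d, hd⟩ := ZMod.intCast_surjective w.toAdd.2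
  have hv : v = Multiplicative.ofAdd ((a : ZMod N), (b : ZMod N)) := by rw [ha, hb]; rfl
  have hw : w = Multiplicative.ofAdd ((c : ZMod N), (d : ZMod N)) := by rw [hc', hd]; rfl
  rw [hv, hw, hφ, hφ] at hvw
  obtain ⟨h1, h2⟩ := pair_eq he hf hne hc hvw
  rw [hv, hw]
  congr 1
  refine Prod.ext ((ZMod.intCast_eq_intCast_iff _ _ _).2 ?_) ((ZMod.intCast_eq_intCast_iff _ _ _).2 ?_)
  · have := zpow_eq_zpow_iff_modEq.1 h1
    rwa [he] at this
  · have := zpow_eq_zpow_iff_modEq.1 h2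
    rwa [hf] at this

/-- Coordinates in the homocyclic group generated by such a pair. -/
theorem exists_coords {e f : T} {j : ℕ} (he : orderOf e = 2 ^ (j + 1)) (hf : orderOf f = 2 ^ (j + 1))
    (hne : top e j ≠ top f j) (hc : Commute e f) (hcard : Nat.card T = (2 ^ (j + 1)) ^ 2) (w : T) :
    ∃ a b : ℤ, w = e ^ a * f ^ b := by
  have hinj : Function.Injective
      (fun v : ZMod (2 ^ (j + 1)) × ZMod (2 ^ (j + 1)) => e ^ (v.1.val : ℤ) * f ^ (v.2.val : ℤ)) := by
    intro v w h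
    obtain ⟨h1, h2⟩ := pair_eq he hf hne hc h
    rw [zpow_natCast, zpow_natCast, pow_inj_mod, he] at h1
    rw [zpow_natCast, zpow_natCast, pow_inj_mod, hf] at h2
    rw [Nat.mod_eq_of_lt (ZMod.val_lt _), Nat.mod_eq_of_lt (ZMod.val_lt _)] at h1 h2
    exact Prod.ext (ZMod.val_injective _ h1) (ZMod.val_injective _ h2)
  obtain ⟨v, hv⟩ := ((Nat.bijective_iff_injective_and_card _).2
    ⟨hinj, by rw [hcard, Nat.card_prod, Nat.card_zmod, pow_two]⟩).2 w
  exact ⟨_, _, hv.symm⟩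

end Cfsg.Agent.CyclicTimesZ
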